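import Cfsg.Agent.H314.Co3.AbelT

/-!
# S1920: linear representations of `4 ∘ 2^{1+4}` with `s` inverted (helper314)

`dim_eight` : let `P` be a linear representation of `R ≥ N0`, `r ∈ R` with `r s = s⁻¹ r`, over a field with `i ^ 2 = -1` and
`2 ≠ 0`; if `z` acts nontrivially then the dimension is at least 8, and in dimension 8 `z` acts as `-1`.
-/

set_option autoImplicit false

open Subgroup Module

namespace Cfsg.Agent.H314.Co3

/-! ### linear algebra -/

section lin

variable {K V : Type*} [Field K] [AddCommGroup V] [Module K V] [FiniteDimensional K V]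

theorem finrank_le_of_inj (B : V →ₗ[K] V) (hB : Function.Injective B) {X Y : Submodule K V}
    (h : ∀ x ∈ X, B x ∈ Y) : finrank K X ≤ finrank K Y := by
  have h1 := LinearMap.finrank_le_finrank_of_injective (f := B.restrict h) (by
    intro x y hxy
    apply Subtype.ext
    apply hB
    have := congrArg Subtype.val hxy
    simpa using this)
  exact h1

/-- halving -/
theorem half (h2 : (2 : K) ≠ 0) (A B : V →ₗ[K] V) (hB : Function.Injective B) (U : Submodule K V)
    (hAU : ∀ u ∈ U, A u ∈ U) (hBU : ∀ u ∈ U, B u ∈ U) (hAA : ∀ u ∈ U, A (A u) = u)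
    (hAB : ∀ u ∈ U, A (B u) = -B (A u)) :
    finrank K U = 2 * finrank K ↥(U ⊓ LinearMap.ker (A - 1)) := by
  set X := U ⊓ LinearMap.ker (A - 1) with hX
  set Y := U ⊓ LinearMap.ker (A + 1) with hY
  have mX : ∀ u, u ∈ X ↔ u ∈ U ∧ A u = u := by
    intro u
    rw [hX, Submodule.mem_inf, LinearMap.mem_ker, LinearMap.sub_apply, Module.End.one_apply, sub_eq_zero]
  have mY : ∀ u, u ∈ Y ↔ u ∈ U ∧ A u = -u := by
    intro u
    rw [hY, Submodule.mem_inf, LinearMap.mem_ker, LinearMap.add_apply, Module.End.one_apply, add_eq_zero_iff_eq_neg]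
  have hXY : finrank K X ≤ finrank K Y := finrank_le_of_inj B hB fun u hu => by
    rw [mX] at hu
    rw [mY]
    exact ⟨hBU u hu.1, by rw [hAB u hu.1, hu.2]⟩
  have hYX : finrank K Y ≤ finrank K X := finrank_le_of_inj B hB fun u hu => by
    rw [mY] at hu
    rw [mX]
    exact ⟨hBU u hu.1, by rw [hAB u hu.1, hu.2, map_neg, neg_neg]⟩
  have hinf : X ⊓ Y = ⊥ := by
    rw [eq_bot_iff]
    rintro u ⟨hu1, hu2⟩
    replace hu1 := ((mX u).1 hu1).2
    replace hu2 := ((mY u).1 hu2).2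
    rw [hu1] at hu2
    have h3 : (2 : K) • u = 0 := by
      rw [two_smul]
      nth_rewrite 1 [hu2]
      exact neg_add_cancel u
    exact (smul_eq_zero.1 h3).resolve_left h2
  have hsup : X ⊔ Y = U := by
    apply le_antisymm (sup_le inf_le_left inf_le_left)
    intro u hu
    have h3 : u = (2 : K)⁻¹ • (u + A u) + (2 : K)⁻¹ • (u - A u) := by
      rw [← smul_add]
      have : u + A u + (u - A u) = (2 : K) • u := by rw [two_smul]; abel
      rw [this, smul_smul, inv_mul_cancel₀ h2, one_smul]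
    rw [h3]
    refine Submodule.add_mem_sup ?_ ?_
    · refine X.smul_mem _ ((mX _).2 ⟨U.add_mem hu (hAU u hu), ?_⟩)
      rw [map_add, hAA u hu, add_comm]
    · refine Y.smul_mem _ ((mY _).2 ⟨U.sub_mem hu (hAU u hu), ?_⟩)
      rw [map_sub, hAA u hu]; abel
  have h3 := Submodule.finrank_sup_add_finrank_inf_eq X Y
  rw [hinf, hsup, finrank_bot, add_zero] at h3
  omega

end lin

variable {G : Type*} [Group G]

namespace CA

variable {H N0 : Subgroup G} {z s : G} {ψ : ↥H →* Equiv.Perm (Fin 6)}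

/-- a coset of `⟨s⟩` contains an involution -/
theorem exists_sq (C : CA H N0 z s ψ) {n : G} (hn : n ∈ N0) :
    ∃ m ∈ N0, m * m = 1 ∧ (m = n ∨ m = n * s) := by
  rcases C.sq n hn with h | h
  · exact ⟨n, hn, h, Or.inl rfl⟩
  · refine ⟨n * s, mul_mem hn C.sN, ?_, Or.inr rfl⟩
    calc n * s * (n * s) = n * (s * n) * s := by group
      _ = n * (n * s) * s := by rw [C.s_cen n hn]
      _ = (n * n) * (s * s) := by group
      _ = 1 := by rw [h, C.s_sq, C.z_sq]

theorem s_ne (C : CA H N0 z s ψ) {n : G} (_hn : n ∈ N0) {m : G} (hm : m ∈ N0) (h : n * m ≠ m * n) :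
    (n * s) * m ≠ m * (n * s) := by
  intro h1
  apply h
  have h2 : (n * s) * m = n * m * s := by rw [mul_assoc, ← C.s_cen m hm]; group
  rw [h2, ← mul_assoc] at h1
  exact mul_right_cancel h1

/-- generators -/
theorem exists_gens [Finite G] (C : CA H N0 z s ψ) : ∃ a ∈ N0, ∃ b ∈ N0, ∃ c ∈ N0, ∃ d ∈ N0, a * a = 1 ∧ c * c = 1 ∧
    a * b = z * (b * a) ∧ c * d = z * (d * c) ∧ a * c = c * a ∧ a * d = d * a := by
  -- `a`
  have h1 : ∃ a0 ∈ N0, ∃ b ∈ N0, a0 * b ≠ b * a0 := by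
    by_contra hcon
    push Not at hcon
    have := C.card_abel le_rfl hcon
    rw [C.card] at this
    omega
  obtain ⟨a0, ha0, b, hb, hab⟩ := h1
  obtain ⟨a, ha, haa, hae⟩ := C.exists_sq ha0
  have hab' : a * b ≠ b * a := by
    rcases hae with rfl | rfl
    · exact hab
    · exact C.s_ne ha0 hb hab
  -- the centraliser of `a`
  let E : Subgroup G := N0 ⊓ centralizer {a}
  have hE : ∀ x, x ∈ E ↔ x ∈ N0 ∧ a * x = x * a := by
    intro x
    simp only [E, mem_inf, mem_centralizer_singleton_iff]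
    constructor
    · rintro ⟨h3, h4⟩; exact ⟨h3, h4.symm⟩
    · rintro ⟨h3, h4⟩; exact ⟨h3, h4.symm⟩
  have h4 := card_le_two_mul (D := N0) (E := E) inf_le_left (by
    intro x hx y hy hx' hy'
    rw [hE] at hx' hy' ⊢
    exact ⟨mul_mem (inv_mem hx) hy, C.comm_mul ha hx hy (fun h => hx' ⟨hx, h⟩) (fun h => hy' ⟨hy, h⟩)⟩)
  rw [C.card] at h4
  have h5 : ∃ c0 ∈ E, ∃ d ∈ E, c0 * d ≠ d * c0 := by
    by_contra hcon
    push Not at hcon
    have := C.card_abel (D := E) inf_le_left hcon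
    omega
  obtain ⟨c0, hc0, d, hd, hcd⟩ := h5
  rw [hE] at hc0 hd
  obtain ⟨c, hc, hcc, hce⟩ := C.exists_sq hc0.1
  have hcd' : c * d ≠ d * c := by
    rcases hce with rfl | rfl
    · exact hcd
    · exact C.s_ne hc0.1 hd.1 hcd
  have hac : a * c = c * a := by
    rcases hce with rfl | rfl
    · exact hc0.2
    · calc a * (c0 * s) = (a * c0) * s := by group
        _ = c0 * (a * s) := by rw [hc0.2]; group
        _ = c0 * s * a := by rw [C.s_cen a ha]; group
  exact ⟨a, ha, b, hb, c, hc, d, hd.1, haa, hcc, (C.comm a ha b hb).resolve_left hab',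
    (C.comm c hc d hd.1).resolve_left hcd', hac, hd.2⟩

/-- conjugation of `s` -/
theorem conj_s (C : CA H N0 z s ψ) {r : G} (hrH : r ∈ H) (hrN : r ∈ normalizer (N0 : Set G)) (hr : r * s ≠ s * r) :
    r * s = z * (s * r) := by
  have h1 : r * s * r⁻¹ ∈ N0 := (mem_normalizer_iff.1 hrN s).1 C.sN
  have h2 : r * s * r⁻¹ ∈ zpowers s := by
    refine C.cen _ h1 fun m hm => ?_
    have h3 : r⁻¹ * m * r ∈ N0 := by
      have := (mem_normalizer_iff.1 (inv_mem hrN) m).1 hm
      rwa [inv_inv] at this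
    have h4 := C.s_cen _ h3
    calc r * s * r⁻¹ * m = r * (s * (r⁻¹ * m * r)) * r⁻¹ := by group
      _ = r * ((r⁻¹ * m * r) * s) * r⁻¹ := by rw [h4]
      _ = m * (r * s * r⁻¹) := by group
  obtain ⟨k, hk⟩ := h2
  have hk' : s ^ k = r * s * r⁻¹ := hk
  -- reduce `k` modulo 4
  have h4 : s ^ (k % 4) = s ^ k := by
    have h5 : s ^ (4 : ℤ) = 1 := by
      have := C.s_pow
      exact_mod_cast this
    conv_rhs => rw [← Int.emod_add_mul_ediv k 4, zpow_add, zpow_mul, h5, one_zpow, mul_one]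
  have h6 : k % 4 = 0 ∨ k % 4 = 1 ∨ k % 4 = 2 ∨ k % 4 = 3 := by omega
  have hrz : r * z = z * r := C.z_cen r hrH
  have hs1 : s ≠ 1 := by
    rintro h; apply C.z_ne; rw [← C.s_sq, h, one_mul]
  have hsz : s ≠ z := by
    intro h; apply C.z_ne
    have h7 := C.s_sq
    rw [h, C.z_sq] at h7
    exact h7.symm
  rcases h6 with h6 | h6 | h6 | h6
  · exfalso
    rw [h6, zpow_zero, hk'] at h4
    apply hs1
    have : s = r⁻¹ * (r * s * r⁻¹) * r := by group
    rw [this, ← h4]; group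
  · exfalso
    rw [h6, zpow_one, hk'] at h4
    apply hr
    nth_rewrite 2 [h4]
    group
  · exfalso
    have h7 : s ^ (2 : ℤ) = z := by rw [zpow_two, C.s_sq]
    rw [h6, h7, hk'] at h4
    apply hsz
    have : s = r⁻¹ * (r * s * r⁻¹) * r := by group
    rw [this, ← h4, mul_assoc, ← hrz]; group
  · have h7 : s ^ (3 : ℤ) = z * s := by
      have : s ^ (3 : ℤ) = s * s * s := by
        rw [show (3 : ℤ) = 1 + 1 + 1 by norm_num, zpow_add, zpow_add, zpow_one]
      rw [this, C.s_sq]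
    rw [h6, h7, hk'] at h4
    have h8 : r * s = (r * s * r⁻¹) * r := by group
    rw [h8, ← h4, mul_assoc]

variable {K V : Type*} [Field K] [AddCommGroup V] [Module K V] [FiniteDimensional K V]

/-- **dimension 8** -/
theorem dim_eight [Finite G] (C : CA H N0 z s ψ) (h2 : (2 : K) ≠ 0) {i : K} (hi : i * i = -1) {R : Subgroup G}
    (hR : N0 ≤ R) {r : G} (hrR : r ∈ R) (hrH : r ∈ H) (hrN : r ∈ normalizer (N0 : Set G)) (hr : r * s ≠ s * r)
    (P : ↥R →* (V →ₗ[K] V)) (hz : P ⟨z, hR C.zN⟩ ≠ 1) :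
    8 ≤ finrank K V ∧ (finrank K V = 8 → P ⟨z, hR C.zN⟩ = -1) := by
  obtain ⟨a, ha, b, hb, c, hc, d, hd, haa, hcc, hab, hcd, hac, had⟩ := C.exists_gens
  have hrs := C.conj_s hrH hrN hr
  -- the operators
  have hPm : ∀ {x y w : G} (hx : x ∈ R) (hy : y ∈ R) (hw : w ∈ R), x * y = w → ∀ v : V,
      P ⟨x, hx⟩ (P ⟨y, hy⟩ v) = P ⟨w, hw⟩ v := by
    intro x y w hx hy hw h v
    rw [← Module.End.mul_apply, ← map_mul]
    congr 2
    exact Subtype.ext h
  have hinj : ∀ x : ↥R, Function.Injective (P x) := by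
    intro x u v huv
    have h3 : ∀ w : V, P x⁻¹ (P x w) = w := by
      intro w
      rw [← Module.End.mul_apply, ← map_mul, inv_mul_cancel, map_one, Module.End.one_apply]
    rw [← h3 u, ← h3 v, huv]
  set Z := P ⟨z, hR C.zN⟩ with hZ
  set S := P ⟨s, hR C.sN⟩ with hS
  set A := P ⟨a, hR ha⟩ with hA
  set B := P ⟨b, hR hb⟩ with hB
  set Cc := P ⟨c, hR hc⟩ with hCc
  set D := P ⟨d, hR hd⟩ with hD
  set Rr := P ⟨r, hrR⟩ with hRr
  have oneR : (1 : G) ∈ R := one_mem R
  have P1 : ∀ v : V, P ⟨1, oneR⟩ v = v := by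
    intro v
    have : P ⟨1, oneR⟩ = 1 := map_one P
    rw [this, Module.End.one_apply]
  have SS : ∀ v, S (S v) = Z v := hPm _ _ _ C.s_sq
  have ZZ : ∀ v, Z (Z v) = v := fun v => by rw [hPm _ _ oneR C.z_sq v, P1]
  have AA : ∀ v, A (A v) = v := fun v => by rw [hPm _ _ oneR haa v, P1]
  have CC : ∀ v, Cc (Cc v) = v := fun v => by rw [hPm _ _ oneR hcc v, P1]
  have com : ∀ {x y : G} (hx : x ∈ R) (hy : y ∈ R), x * y = y * x → ∀ v : V,
      P ⟨x, hx⟩ (P ⟨y, hy⟩ v) = P ⟨y, hy⟩ (P ⟨x, hx⟩ v) := by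
    intro x y hx hy h v
    rw [hPm hx hy (mul_mem hx hy) rfl v, hPm hy hx (mul_mem hx hy) h.symm v]
  have anti : ∀ {x y : G} (hx : x ∈ R) (hy : y ∈ R), x * y = z * (y * x) → ∀ v : V,
      P ⟨x, hx⟩ (P ⟨y, hy⟩ v) = Z (P ⟨y, hy⟩ (P ⟨x, hx⟩ v)) := by
    intro x y hx hy h v
    rw [hPm hx hy (mul_mem hx hy) rfl v, hPm hy hx (mul_mem hy hx) rfl v,
      hPm (hR C.zN) (mul_mem hy hx) (mul_mem hx hy) h.symm v]
  have AS : ∀ v, A (S v) = S (A v) := com _ _ (C.s_cen a ha)
  have BS : ∀ v, B (S v) = S (B v) := com _ _ (C.s_cen b hb)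
  have CS : ∀ v, Cc (S v) = S (Cc v) := com _ _ (C.s_cen c hc)
  have DS : ∀ v, D (S v) = S (D v) := com _ _ (C.s_cen d hd)
  have AC : ∀ v, A (Cc v) = Cc (A v) := com _ _ hac
  have AD : ∀ v, A (D v) = D (A v) := com _ _ had
  have AB : ∀ v, A (B v) = Z (B (A v)) := anti _ _ hab
  have CD : ∀ v, Cc (D v) = Z (D (Cc v)) := anti _ _ hcd
  have RS : ∀ v, Rr (S v) = Z (S (Rr v)) := anti _ _ hrs
  have ZS : ∀ v, Z (S v) = S (Z v) := fun v => by rw [← SS, ← SS]
  -- eigenspaces of `S`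
  have key : ∀ ε : K, ε * ε = -1 → 4 ∣ finrank K ↥(LinearMap.ker (S - ε • (1 : V →ₗ[K] V))) := by
    intro ε hε
    set U := LinearMap.ker (S - ε • (1 : V →ₗ[K] V)) with hU
    have mU : ∀ u, u ∈ U ↔ S u = ε • u := by
      intro u
      rw [hU, LinearMap.mem_ker, LinearMap.sub_apply, LinearMap.smul_apply, Module.End.one_apply, sub_eq_zero]
    have ZU : ∀ u ∈ U, Z u = -u := by
      intro u hu
      rw [mU] at hu
      rw [← SS, hu, map_smul, hu, smul_smul, hε, neg_one_smul]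
    have inv : ∀ X : V →ₗ[K] V, (∀ v, X (S v) = S (X v)) → ∀ u ∈ U, X u ∈ U := by
      intro X hX u hu
      rw [mU] at hu ⊢
      rw [← hX, hu, map_smul]
    have h3 := half h2 A B (hinj _) U (inv A AS) (inv B BS) (fun u _ => AA u) (fun u hu => by
      rw [AB, ZU _ (inv B BS _ (inv A AS u hu))])
    set U1 := U ⊓ LinearMap.ker (A - 1) with hU1
    have mU1 : ∀ u, u ∈ U1 ↔ u ∈ U ∧ A u = u := by
      intro u
      rw [hU1, Submodule.mem_inf]
      refine and_congr Iff.rfl ?_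
      rw [LinearMap.mem_ker, LinearMap.sub_apply, Module.End.one_apply, sub_eq_zero]
    have h4 := half h2 Cc D (hinj _) U1
      (fun u hu => by
        rw [mU1] at hu ⊢
        exact ⟨inv Cc CS u hu.1, by rw [AC, hu.2]⟩)
      (fun u hu => by
        rw [mU1] at hu ⊢
        exact ⟨inv D DS u hu.1, by rw [AD, hu.2]⟩)
      (fun u _ => CC u) (fun u hu => by
        rw [mU1] at hu
        rw [CD, ZU _ (inv D DS _ (inv Cc CS u hu.1))])
    rw [h3, h4]
    exact ⟨_, by ring⟩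
  have hi' : (-i) * (-i) = -1 := by rw [neg_mul_neg, hi]
  set U := LinearMap.ker (S - i • (1 : V →ₗ[K] V)) with hU
  set W := LinearMap.ker (S - (-i) • (1 : V →ₗ[K] V)) with hW
  have mU : ∀ u, u ∈ U ↔ S u = i • u := by
    intro u
    rw [hU, LinearMap.mem_ker, LinearMap.sub_apply, LinearMap.smul_apply, Module.End.one_apply, sub_eq_zero]
  have mW : ∀ u, u ∈ W ↔ S u = (-i) • u := by
    intro u
    rw [hW, LinearMap.mem_ker, LinearMap.sub_apply, LinearMap.smul_apply, Module.End.one_apply, sub_eq_zero]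
  have ZU : ∀ u ∈ U, Z u = -u := by
    intro u hu
    rw [mU] at hu
    rw [← SS, hu, map_smul, hu, smul_smul, hi, neg_one_smul]
  have ZW : ∀ u ∈ W, Z u = -u := by
    intro u hu
    rw [mW] at hu
    rw [← SS, hu, map_smul, hu, smul_smul, hi', neg_one_smul]
  -- `S (Rr u)`
  have SR : ∀ u, S (Rr u) = Z (Rr (S u)) := by
    intro u
    rw [RS, ZZ]
  have RU : ∀ u ∈ U, Rr u ∈ W := by
    intro u hu
    rw [mW, SR, (mU u).1 hu, map_smul, map_smul]
    have h5 : Z (Rr u) = -(Rr u) := by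
      have h6 : Z (Rr u) = Rr (Z u) := by
        have := com (hR C.zN) hrR (C.z_cen r hrH).symm u
        exact this
      rw [h6, ZU u hu, map_neg]
    rw [h5, smul_neg, neg_smul]
  have RW : ∀ u ∈ W, Rr u ∈ U := by
    intro u hu
    rw [mU, SR, (mW u).1 hu, map_smul, map_smul]
    have h5 : Z (Rr u) = -(Rr u) := by
      have h6 : Z (Rr u) = Rr (Z u) := by
        have := com (hR C.zN) hrR (C.z_cen r hrH).symm u
        exact this
      rw [h6, ZW u hu, map_neg]
    rw [h5, smul_neg, neg_smul, neg_neg]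
  have e1 : finrank K U = finrank K W :=
    le_antisymm (finrank_le_of_inj Rr (hinj _) RU) (finrank_le_of_inj Rr (hinj _) RW)
  have d4 := key i hi
  -- `U ⊓ W = ⊥`
  have hinf : U ⊓ W = ⊥ := by
    rw [eq_bot_iff]
    rintro u ⟨hu1, hu2⟩
    have h5 := (mU u).1 hu1
    have h6 := (mW u).1 hu2
    rw [h5] at h6
    have h7 : (2 : K) • (i • u) = 0 := by
      rw [two_smul]
      nth_rewrite 1 [h6]
      rw [neg_smul, neg_add_cancel]
    have h8 := (smul_eq_zero.1 h7).resolve_left h2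
    have hi0 : i ≠ 0 := by
      rintro rfl
      rw [mul_zero] at hi
      exact absurd hi (by simp)
    exact (smul_eq_zero.1 h8).resolve_left hi0
  have hsum := Submodule.finrank_sup_add_finrank_inf_eq U W
  rw [hinf, finrank_bot, add_zero, ← e1] at hsum
  have hle := Submodule.finrank_le (U ⊔ W)
  -- `U ≠ ⊥`
  have hU0 : finrank K U ≠ 0 := by
    intro h0
    have hUb : U = ⊥ := Submodule.finrank_eq_zero.1 h0
    have hWb : W = ⊥ := Submodule.finrank_eq_zero.1 (by rw [← e1, h0])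
    apply hz
    ext v
    rw [Module.End.one_apply]
    -- `w = v - Z v`
    have hw : Z (v - Z v) = -(v - Z v) := by rw [map_sub, ZZ]; abel
    have h5 : S (v - Z v) + i • (v - Z v) ∈ U := by
      rw [mU, map_add, map_smul, SS, hw, smul_add, smul_smul, hi, neg_one_smul]
      abel
    rw [hUb, Submodule.mem_bot] at h5
    have h6 : (v - Z v) ∈ W := by
      rw [mW, neg_smul]
      exact eq_neg_of_add_eq_zero_left h5
    rw [hWb, Submodule.mem_bot, sub_eq_zero] at h6
    exact h6.symm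
  obtain ⟨k, hk⟩ := d4
  have hk' : finrank K U = 4 * k := hk
  refine ⟨by omega, fun h8 => ?_⟩
  have htop : U ⊔ W = ⊤ := Submodule.eq_top_of_finrank_eq (by omega)
  ext v
  have hv : v ∈ U ⊔ W := by rw [htop]; trivial
  obtain ⟨x, hx, y, hy, rfl⟩ := Submodule.mem_sup.1 hv
  rw [map_add, ZU x hx, ZW y hy, LinearMap.neg_apply, Module.End.one_apply]
  abel

end CA

end Cfsg.Agent.H314.Co3
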