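import Cfsg.Agent.H314.Co3.Def

/-!
# S1920, case A: abelian 2-subgroups of `G` (helper314)

`abel` : an abelian 2-subgroup `A` of `G` has order at most `2 ^ 7`, and if the order is `2 ^ 7` then the fourth powers
of the elements of `A` lie in a group of order 2.
-/

set_option autoImplicit false

open Subgroup

namespace Cfsg.Agent.H314.Co3

variable {G : Type*} [Group G]

/-- a subgroup `E` of `D` with `a⁻¹ b ∈ E` for `a, b ∈ D ∖ E` -/
theorem card_le_two_mul [Finite G] {D E : Subgroup G} (hE : E ≤ D)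
    (h : ∀ a ∈ D, ∀ b ∈ D, a ∉ E → b ∉ E → a⁻¹ * b ∈ E) : Nat.card D ≤ 2 * Nat.card E := by
  classical
  by_cases hDE : D ≤ E
  · have : D = E := le_antisymm hDE hE
    rw [this]; omega
  obtain ⟨a, haD, haE⟩ := SetLike.not_le_iff_exists.1 hDE
  have h1 : ∀ b : D, (b : G) ∉ E → a⁻¹ * (b : G) ∈ E := fun b hb => h a haD b b.2 haE hb
  let f : D → E ⊕ E := fun b => if hb : (b : G) ∈ E then Sum.inl ⟨b, hb⟩ else Sum.inr ⟨a⁻¹ * (b : G), h1 b hb⟩
  have hf : Function.Injective f := by
    intro x y hxy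
    simp only [f] at hxy
    split_ifs at hxy with hx hy hy
    · rw [Sum.inl.injEq, Subtype.mk.injEq] at hxy
      exact Subtype.ext hxy
    · rw [Sum.inr.injEq, Subtype.mk.injEq] at hxy
      exact Subtype.ext (mul_left_cancel hxy)
  have h2 := Nat.card_le_card_of_injective f hf
  rw [Nat.card_sum] at h2
  omega

namespace CA

variable {H N0 : Subgroup G} {z s : G} {ψ : ↥H →* Equiv.Perm (Fin 6)}

theorem zN (C : CA H N0 z s ψ) : z ∈ N0 := by
  rw [← C.s_sq]; exact mul_mem C.sN C.sN

theorem z_comm (C : CA H N0 z s ψ) {n : G} (hn : n ∈ N0) : n * z = z * n := C.z_cen n (C.NH hn)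

theorem s_pow (C : CA H N0 z s ψ) : s ^ 4 = 1 := by
  have : s ^ 4 = (s * s) * (s * s) := by simp only [pow_succ, pow_zero, one_mul, mul_assoc]
  rw [this, C.s_sq, C.z_sq]

theorem card_s [Finite G] (C : CA H N0 z s ψ) : Nat.card (zpowers s) ≤ 4 := by
  rw [Nat.card_zpowers]
  exact orderOf_le_of_pow_eq_one (by norm_num) C.s_pow

theorem sz_le (C : CA H N0 z s ψ) : zpowers s ≤ N0 := by
  rw [zpowers_le]; exact C.sN

/-- the commutator as an alternative -/
theorem comm_mul (C : CA H N0 z s ψ) {n a b : G} (hn : n ∈ N0) (ha : a ∈ N0) (hb : b ∈ N0)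
    (h1 : n * a ≠ a * n) (h2 : n * b ≠ b * n) : n * (a⁻¹ * b) = a⁻¹ * b * n := by
  have e1 := (C.comm n hn a ha).resolve_left h1
  have e2 := (C.comm n hn b hb).resolve_left h2
  have hz := C.z_comm ha
  have h3 : a⁻¹ * n = z * (n * a⁻¹) := by
    have h4 : n * a⁻¹ = z * (a⁻¹ * n) := by
      have h5 : a * (n * a⁻¹) = a * (z * (a⁻¹ * n)) := by
        calc a * (n * a⁻¹) = (z * z) * (a * n) * a⁻¹ := by rw [C.z_sq]; group
          _ = z * (z * (a * n)) * a⁻¹ := by group
          _ = z * (n * a) * a⁻¹ := by rw [← e1]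
          _ = z * n := by group
          _ = (a * z) * a⁻¹ * n := by rw [hz]; group
          _ = a * (z * (a⁻¹ * n)) := by group
      exact mul_left_cancel h5
    rw [h4, ← mul_assoc z z, C.z_sq, one_mul]
  have h6 : n * a⁻¹ = z * (a⁻¹ * n) := by
    rw [h3, ← mul_assoc z z, C.z_sq, one_mul]
  have hz' : a⁻¹ * z = z * a⁻¹ := by
    have := C.z_comm (inv_mem ha)
    exact this
  calc n * (a⁻¹ * b) = n * a⁻¹ * b := by group
    _ = z * (a⁻¹ * n) * b := by rw [h6]
    _ = z * a⁻¹ * (n * b) := by group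
    _ = z * a⁻¹ * (z * (b * n)) := by rw [e2]
    _ = z * (a⁻¹ * z) * (b * n) := by group
    _ = z * (z * a⁻¹) * (b * n) := by rw [hz']
    _ = (z * z) * (a⁻¹ * b * n) := by group
    _ = a⁻¹ * b * n := by rw [C.z_sq, one_mul]

/-- **abelian subgroups of `N0` have order at most 16** -/
theorem card_abel [Finite G] (C : CA H N0 z s ψ) {D : Subgroup G} (hD : D ≤ N0)
    (hc : ∀ x ∈ D, ∀ y ∈ D, x * y = y * x) : Nat.card D ≤ 16 := by
  by_contra hlt
  have h1 : Nat.card D ∣ 64 := by rw [← C.card]; exact Subgroup.card_dvd_of_le hD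
  have h2 : Nat.card D = 32 ∨ Nat.card D = 64 := by
    have h3 : Nat.card D ≤ 64 := Nat.le_of_dvd (by norm_num) h1
    obtain ⟨k, hk⟩ := h1
    have : k < 4 := by
      by_contra hk4
      have : 4 * 17 ≤ k * Nat.card D := Nat.mul_le_mul (by omega) (by omega)
      rw [mul_comm k] at this
      omega
    interval_cases k <;> omega
  rcases h2 with h2 | h2
  · -- index two
    have hlt2 : ¬ N0 ≤ D := fun h => by
      have h3 := Subgroup.card_le_of_le h
      rw [C.card, h2] at h3
      omega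
    obtain ⟨n, hn, hnD⟩ := SetLike.not_le_iff_exists.1 hlt2
    have hidx : (D.subgroupOf N0).index = 2 := by
      have h3 := Subgroup.card_mul_index (D.subgroupOf N0)
      rw [Nat.card_congr (Subgroup.subgroupOfEquivOfLe hD).toEquiv, h2, C.card] at h3
      omega
    have hmul : ∀ a ∈ N0, ∀ b ∈ N0, (a * b ∈ D ↔ (a ∈ D ↔ b ∈ D)) := by
      intro a ha b hb
      have := Subgroup.mul_mem_iff_of_index_two hidx (a := ⟨a, ha⟩) (b := ⟨b, hb⟩)
      simpa [Subgroup.mem_subgroupOf] using this
    let E : Subgroup G := D ⊓ centralizer {n}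
    have hE : ∀ x, x ∈ E ↔ x ∈ D ∧ n * x = x * n := by
      intro x
      simp only [E, mem_inf, mem_centralizer_singleton_iff]
      constructor
      · rintro ⟨h3, h4⟩; exact ⟨h3, h4.symm⟩
      · rintro ⟨h3, h4⟩; exact ⟨h3, h4.symm⟩
    have h4 := card_le_two_mul (D := D) (E := E) inf_le_left (by
      intro a ha b hb ha' hb'
      rw [hE] at ha' hb' ⊢
      refine ⟨mul_mem (inv_mem ha) hb, C.comm_mul hn (hD ha) (hD hb) (fun h => ha' ⟨ha, h⟩) (fun h => hb' ⟨hb, h⟩)⟩)
    have h5 : E ≤ zpowers s := by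
      intro x hx
      rw [hE] at hx
      refine C.cen x (hD hx.1) fun m hm => ?_
      by_cases hmD : m ∈ D
      · exact hc x hx.1 m hmD
      · have h6 : n⁻¹ * m ∈ D := by
          rw [hmul _ (inv_mem hn) _ hm, inv_mem_iff]
          exact ⟨fun h => absurd h hnD, fun h => absurd h hmD⟩
        have h7 := hc x hx.1 _ h6
        have h8 : x * n = n * x := hx.2.symm
        calc x * m = (x * n) * (n⁻¹ * m) := by group
          _ = n * (x * (n⁻¹ * m)) := by rw [h8]; group
          _ = n * ((n⁻¹ * m) * x) := by rw [h7]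
          _ = m * x := by group
    have h6 := (Subgroup.card_le_of_le h5).trans C.card_s
    omega
  · have h3 : D = N0 := Subgroup.eq_of_le_of_card_ge hD (by rw [C.card, h2])
    have h4 : N0 ≤ zpowers s := fun x hx => C.cen x hx fun m hm => hc x (by rw [h3]; exact hx) m (by rw [h3]; exact hm)
    have h5 := (Subgroup.card_le_of_le h4).trans C.card_s
    rw [C.card] at h5
    omega

/-- an abelian subgroup of order 16 of `N0` is its own centraliser -/
theorem self_cent [Finite G] (C : CA H N0 z s ψ) {D : Subgroup G} (hD : D ≤ N0)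
    (hc : ∀ x ∈ D, ∀ y ∈ D, x * y = y * x) (h16 : 16 ≤ Nat.card D) {c : G} (hcN : c ∈ N0)
    (hcc : ∀ x ∈ D, c * x = x * c) : c ∈ D := by
  by_contra hcD
  let D' : Subgroup G := closure (insert c (D : Set G))
  have h1 : D' ≤ N0 := by
    rw [closure_le]
    intro x hx
    rcases hx with rfl | hx
    · exact hcN
    · exact hD hx
  have h2 : IsMulCommutative D' := by
    apply Subgroup.isMulCommutative_closure
    intro x hx y hy
    rcases hx with rfl | hx
    · rcases hy with rfl | hy
      · rfl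
      · exact hcc y hy
    · rcases hy with rfl | hy
      · exact (hcc x hx).symm
      · exact hc x hx y hy
  have h3 : Nat.card D' ≤ 16 := C.card_abel h1 fun x hx y hy => by
    have := h2.is_comm.comm (⟨x, hx⟩ : D') ⟨y, hy⟩
    exact congrArg Subtype.val this
  have h4 : D ≤ D' := fun x hx => subset_closure (Or.inr hx)
  have h5 : D = D' := Subgroup.eq_of_le_of_card_ge h4 (h3.trans h16)
  apply hcD
  rw [h5]
  exact subset_closure (Or.inl rfl)

end CA

end Cfsg.Agent.H314.Co3
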