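import Cfsg.Agent.H314.Co3.SylT

/-!
# S1920, case A: abelian 2-subgroups of `G` (helper314)

`abel` : an abelian 2-subgroup `A` of `G` has order at most `2 ^ 7`, and if the order is `2 ^ 7` then the fourth powers
of the elements of `A` lie in a group of order 2.
-/

set_option autoImplicit false

open Subgroup

namespace Cfsg.Agent.H314.Co3

variable {G : Type*} [Group G]

def cyc4 : Equiv.Perm (Fin 6) where
  toFun := ![1, 2, 3, 0, 4, 5]
  invFun := ![3, 0, 1, 2, 4, 5]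
  left_inv := by decide
  right_inv := by decide

theorem cyc4_cent : Fintype.card {g : Equiv.Perm (Fin 6) // g * cyc4 = cyc4 * g} = 8 := by decide +kernel

theorem fac720 : (Nat.card (Equiv.Perm (Fin 6))).factorization 2 = 4 := by
  rw [card_perm_six, show 720 = 2 ^ 4 * 45 by norm_num, Nat.factorization_mul (by norm_num) (by norm_num),
    Nat.Prime.factorization_pow Nat.prime_two]
  simp only [Finsupp.add_apply, Finsupp.single_eq_same]
  rw [Nat.factorization_eq_zero_of_not_dvd (by norm_num)]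

/-- abelian 2-subgroups of `S₆` have order at most 8 -/
theorem card_abel_perm {B : Subgroup (Equiv.Perm (Fin 6))} (hB : IsPGroup 2 B)
    (hc : ∀ x ∈ B, ∀ y ∈ B, x * y = y * x) : Nat.card B ≤ 8 := by
  have : Fact (Nat.Prime 2) := ⟨Nat.prime_two⟩
  by_contra hlt
  have h1 : Nat.card B ∣ 2 ^ 4 := by
    refine card_le_of_two hB (show Odd 45 by decide) ?_
    have := Subgroup.card_subgroup_dvd_card B
    rwa [card_perm_six] at this
  have h2 : Nat.card B = 2 ^ 4 := by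
    obtain ⟨k, hk, hk'⟩ := (Nat.dvd_prime_pow Nat.prime_two).1 h1
    interval_cases k <;> omega
  let P : Sylow 2 (Equiv.Perm (Fin 6)) := Sylow.ofCard B (by rw [fac720, h2])
  have hz : IsPGroup 2 (zpowers cyc4) := by
    refine IsPGroup.iff_orderOf.2 fun x => ?_
    have h3 : orderOf x ∣ 2 ^ 2 := by
      apply orderOf_dvd_of_pow_eq_one
      obtain ⟨x, n, rfl⟩ := x
      apply Subtype.ext
      change (cyc4 ^ n) ^ (2 ^ 2) = 1
      rw [← zpow_natCast, ← zpow_mul, mul_comm, zpow_mul, zpow_natCast]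
      have : cyc4 ^ (2 ^ 2) = 1 := by decide
      rw [this, one_zpow]
    obtain ⟨k, -, hk⟩ := (Nat.dvd_prime_pow Nat.prime_two).1 h3
    exact ⟨k, hk⟩
  obtain ⟨Q, hQ⟩ := hz.exists_le_sylow
  obtain ⟨g, hg⟩ := MulAction.exists_smul_eq (Equiv.Perm (Fin 6)) P Q
  have hQc : ∀ x ∈ Q, x * cyc4 = cyc4 * x := by
    have hmem : ∀ x ∈ Q, g⁻¹ * x * g ∈ B := by
      intro x hx
      rw [← hg] at hx
      have h5 : x ∈ ((g • P : Sylow 2 (Equiv.Perm (Fin 6))) : Subgroup (Equiv.Perm (Fin 6))) := hx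
      rw [Sylow.coe_subgroup_smul, Subgroup.mem_pointwise_smul_iff_inv_smul_mem] at h5
      rw [← MulAut.conj_inv_apply]
      exact h5
    intro x hx
    have h3 := hmem x hx
    have h4 := hmem cyc4 (hQ (mem_zpowers _))
    have h5 := hc _ h3 _ h4
    calc x * cyc4 = g * ((g⁻¹ * x * g) * (g⁻¹ * cyc4 * g)) * g⁻¹ := by group
      _ = g * ((g⁻¹ * cyc4 * g) * (g⁻¹ * x * g)) * g⁻¹ := by rw [h5]
      _ = cyc4 * x := by group
  have h6 : Nat.card Q = 16 := by rw [Q.card_eq_multiplicity, fac720]; norm_num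
  have h7 : Nat.card Q ≤ Nat.card {g : Equiv.Perm (Fin 6) // g * cyc4 = cyc4 * g} :=
    Nat.card_le_card_of_injective (fun x : Q => ⟨x, hQc x x.2⟩) fun x y hxy => Subtype.ext (by simpa using hxy)
  rw [h6, Nat.card_eq_fintype_card, cyc4_cent] at h7
  omega

namespace CA

variable {H N0 : Subgroup G} {z s : G} {ψ : ↥H →* Equiv.Perm (Fin 6)}

theorem abel_T [Finite G] (C : CA H N0 z s ψ) {T : Subgroup G} (hTH : T ≤ H) (hTN : T ≤ normalizer (N0 : Set G))
    (hT2 : IsPGroup 2 T) (hTk : ∀ t : ↥H, (t : G) ∈ T → ψ t = 1 → (t : G) ∈ N0) {A : Subgroup G} (hA : A ≤ T)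
    (hc : ∀ a ∈ A, ∀ b ∈ A, a * b = b * a) :
    Nat.card A ≤ 128 ∧ (128 ≤ Nat.card A → ∀ a ∈ A, a ^ 4 = 1 ∨ a ^ 4 = z) := by
  let f : ↥A →* Equiv.Perm (Fin 6) := ψ.comp (Subgroup.inclusion (hA.trans hTH))
  have hf : ∀ a : A, f a = ψ ⟨a, hTH (hA a.2)⟩ := fun a => rfl
  have hr : Nat.card f.range ≤ 8 := by
    apply card_abel_perm
    · have h1 : IsPGroup 2 A := hT2.to_le hA
      exact h1.of_surjective f.rangeRestrict f.rangeRestrict_surjective
    · rintro _ ⟨a, rfl⟩ _ ⟨b, rfl⟩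
      rw [← map_mul, ← map_mul]
      congr 1
      exact Subtype.ext (hc a a.2 b b.2)
  have hkN : f.ker.map A.subtype ≤ N0 := by
    rintro _ ⟨a, ha, rfl⟩
    exact hTk ⟨a, hTH (hA a.2)⟩ (hA a.2) ha
  have hkc : ∀ x ∈ f.ker.map A.subtype, ∀ y ∈ f.ker.map A.subtype, x * y = y * x := by
    rintro _ ⟨a, -, rfl⟩ _ ⟨b, -, rfl⟩
    exact hc a a.2 b b.2
  have hk : Nat.card (f.ker.map A.subtype) ≤ 16 := C.card_abel hkN hkc
  have hkk : Nat.card (f.ker.map A.subtype) = Nat.card f.ker :=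
    (Nat.card_congr (f.ker.equivMapOfInjective A.subtype A.subtype_injective).toEquiv).symm
  have hmul : Nat.card f.ker * Nat.card f.range = Nat.card A := by
    rw [← Subgroup.index_ker]; exact Subgroup.card_mul_index f.ker
  refine ⟨?_, ?_⟩
  · rw [← hmul, ← hkk]
    calc _ ≤ 16 * 8 := Nat.mul_le_mul hk hr
      _ = 128 := by norm_num
  · intro h128 a ha
    have h16 : 16 ≤ Nat.card (f.ker.map A.subtype) := by
      rw [← hmul, ← hkk] at h128
      by_contra hlt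
      have : Nat.card (f.ker.map A.subtype) * Nat.card f.range ≤ 15 * 8 := Nat.mul_le_mul (by omega) hr
      omega
    have hDA : f.ker.map A.subtype ≤ A := Subgroup.map_subtype_le _
    have haH : a ∈ H := hTH (hA ha)
    have haN := hTN (hA ha)
    have hza : a * z = z * a := C.z_cen a haH
    -- conjugation by `a`
    have key : ∀ n ∈ N0, a * n * a⁻¹ ∈ N0 ∧ n⁻¹ * (a * n * a⁻¹) ∈ f.ker.map A.subtype := by
      intro n hn
      have h1 : a * n * a⁻¹ ∈ N0 := (mem_normalizer_iff.1 haN n).1 hn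
      refine ⟨h1, C.self_cent hkN hkc h16 (mul_mem (inv_mem hn) h1) ?_⟩
      intro x hx
      have hxa : a * x = x * a := hc a ha x (hDA hx)
      have e : (a * n * a⁻¹) * x * (a * n * a⁻¹)⁻¹ = n * x * n⁻¹ := by
        have e1 : (a * n * a⁻¹) * x * (a * n * a⁻¹)⁻¹ = a * (n * (a⁻¹ * (x * a)) * n⁻¹) * a⁻¹ := by group
        have e2 : a⁻¹ * (x * a) = x := by rw [← hxa]; group
        rw [e1, e2]
        rcases C.comm n hn x (hkN hx) with h2 | h2
        · rw [h2, mul_inv_cancel_right, hxa, mul_inv_cancel_right]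
        · rw [h2, ← mul_assoc z x n, mul_inv_cancel_right, ← mul_assoc a z x, hza, mul_assoc z a x, hxa, ← mul_assoc z x a,
            mul_inv_cancel_right]
      calc n⁻¹ * (a * n * a⁻¹) * x
          = n⁻¹ * ((a * n * a⁻¹) * x * (a * n * a⁻¹)⁻¹) * (a * n * a⁻¹) := by group
        _ = n⁻¹ * (n * x * n⁻¹) * (a * n * a⁻¹) := by rw [e]
        _ = x * (n⁻¹ * (a * n * a⁻¹)) := by group
    have ha2 : a * a ∈ N0 := by
      refine hTk ⟨a * a, mul_mem haH haH⟩ (mul_mem (hA ha) (hA ha)) ?_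
      refine C.faithful _ (mul_mem haN haN) fun n hn => ?_
      change a * a * n * (a * a)⁻¹ * n⁻¹ ∈ zpowers s
      obtain ⟨h1, h2⟩ := key n hn
      set d := n⁻¹ * (a * n * a⁻¹) with hd
      have hda : a * d = d * a := hc a ha d (hDA h2)
      have e1 : a * n * a⁻¹ = n * d := by rw [hd]; group
      have e2 : a * a * n * (a * a)⁻¹ * n⁻¹ = n * (d * d) * n⁻¹ := by
        calc a * a * n * (a * a)⁻¹ * n⁻¹ = a * (a * n * a⁻¹) * a⁻¹ * n⁻¹ := by group
          _ = a * (n * d) * a⁻¹ * n⁻¹ := by rw [e1]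
          _ = (a * n * a⁻¹) * (a * d * a⁻¹) * n⁻¹ := by group
          _ = (n * d) * d * n⁻¹ := by rw [e1, hda, mul_inv_cancel_right]
          _ = n * (d * d) * n⁻¹ := by group
      rw [e2]
      rcases C.sq d (hkN h2) with h3 | h3
      · rw [h3, mul_one, mul_inv_cancel]; exact one_mem _
      · rw [h3, C.z_comm hn, mul_inv_cancel_right, ← C.s_sq]
        exact mul_mem (mem_zpowers s) (mem_zpowers s)
    have e4 : a ^ 4 = (a * a) * (a * a) := by simp only [pow_succ, pow_zero, one_mul, mul_assoc]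
    rw [e4]
    exact C.sq _ ha2

/-- **abelian 2-subgroups of `G`** -/
theorem abel [Finite G] (C : CA H N0 z s ψ) {A : Subgroup G} (hA : IsPGroup 2 A)
    (hc : ∀ a ∈ A, ∀ b ∈ A, a * b = b * a) :
    Nat.card A ≤ 128 ∧ (128 ≤ Nat.card A → ∃ z' : G, ∀ a ∈ A, a ^ 4 = 1 ∨ a ^ 4 = z') := by
  have : Fact (Nat.Prime 2) := ⟨Nat.prime_two⟩
  obtain ⟨T, hTH, hTN, -, hT2, hTc, hTk⟩ := C.exists_T
  let P : Sylow 2 G := Sylow.ofCard T (by rw [C.two, hTc])
  obtain ⟨Q, hQ⟩ := hA.exists_le_sylow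
  obtain ⟨g, hg⟩ := MulAction.exists_smul_eq G P Q
  have hmem : ∀ x ∈ A, g⁻¹ * x * g ∈ T := by
    intro x hx
    have h5 : x ∈ (Q : Subgroup G) := hQ hx
    rw [← hg, Sylow.coe_subgroup_smul, Subgroup.mem_pointwise_smul_iff_inv_smul_mem] at h5
    rw [← MulAut.conj_inv_apply]
    exact h5
  let A' : Subgroup G := A.map (MulAut.conj g⁻¹).toMonoidHom
  have hA' : A' ≤ T := by
    rintro _ ⟨x, hx, rfl⟩
    change (MulAut.conj g⁻¹) x ∈ T
    rw [MulAut.conj_apply, inv_inv]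
    exact hmem x hx
  have hcc : Nat.card A' = Nat.card A :=
    (Nat.card_congr (A.equivMapOfInjective (MulAut.conj g⁻¹).toMonoidHom (MulAut.conj g⁻¹).injective).toEquiv).symm
  obtain ⟨h1, h2⟩ := C.abel_T hTH hTN hT2 hTk hA' (by
    rintro _ ⟨a, ha, rfl⟩ _ ⟨b, hb, rfl⟩
    rw [← map_mul, ← map_mul, hc a ha b hb])
  rw [hcc] at h1 h2
  refine ⟨h1, fun h3 => ⟨g * z * g⁻¹, fun a ha => ?_⟩⟩
  have h4 := h2 h3 _ ⟨a, ha, rfl⟩
  change ((MulAut.conj g⁻¹) a) ^ 4 = 1 ∨ ((MulAut.conj g⁻¹) a) ^ 4 = z at h4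
  rw [← map_pow, MulAut.conj_apply, inv_inv] at h4
  rcases h4 with h4 | h4
  · left
    calc a ^ 4 = g * (g⁻¹ * a ^ 4 * g) * g⁻¹ := by group
      _ = 1 := by rw [h4]; group
  · right
    rw [← h4]; group

end CA

end Cfsg.Agent.H314.Co3
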