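import Mathlib
import Cfsg.Prelude.Def_CaseTheorems

/-!
# S1920, case A: the configuration (helper314)

`H` is the 2-local subgroup; `N0 = 4 ∘ 2^{1+4}` (order 64) covers `N`; `ψ : H → S₆` has kernel `N0 · O(H)`; case A: `S₆`
acts faithfully on `N0 / ⟨s⟩`; then `|G|₂ = 2 ^ 10`.
-/

set_option autoImplicit false

open Subgroup

namespace Cfsg.Agent.H314.Co3

variable {G : Type*} [Group G]

/-- **The configuration of case A.** -/
structure CA (H N0 : Subgroup G) (z s : G) (ψ : ↥H →* Equiv.Perm (Fin 6)) : Prop where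
  NH : N0 ≤ H
  N_two : IsPGroup 2 N0
  card : Nat.card N0 = 64
  sN : s ∈ N0
  s_sq : s * s = z
  z_sq : z * z = 1
  z_ne : z ≠ 1
  s_cen : ∀ n ∈ N0, n * s = s * n
  sq : ∀ n ∈ N0, n * n = 1 ∨ n * n = z
  comm : ∀ n ∈ N0, ∀ m ∈ N0, n * m = m * n ∨ n * m = z * (m * n)
  cen : ∀ n ∈ N0, (∀ m ∈ N0, n * m = m * n) → n ∈ zpowers s
  z_cen : ∀ h ∈ H, h * z = z * h
  surj : Function.Surjective ψ
  psi_N : ∀ n (hn : n ∈ N0), ψ ⟨n, NH hn⟩ = 1
  ker_card : ∃ m, Odd m ∧ Nat.card ψ.ker = 64 * m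
  ker_solv : Group.IsSolvable ψ.ker
  /-- everything is induced by `N_H(N0)` -/
  frat : ∀ π : Equiv.Perm (Fin 6), ∃ h : ↥H, (h : G) ∈ normalizer (N0 : Set G) ∧ ψ h = π
  /-- an element normalising `N0` inverts `s` exactly when it induces an odd permutation -/
  inv_s : ∀ h : ↥H, (h : G) ∈ normalizer (N0 : Set G) → (Equiv.Perm.sign (ψ h) = 1 ↔ (h : G) * s = s * h)
  /-- `S₆` is faithful on `N0 / ⟨s⟩` -/
  faithful : ∀ h : ↥H, (h : G) ∈ normalizer (N0 : Set G) → (∀ n ∈ N0, (h : G) * n * (h : G)⁻¹ * n⁻¹ ∈ zpowers s) → ψ h = 1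
  two : (Nat.card G).factorization 2 = 10

end Cfsg.Agent.H314.Co3
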