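import Cfsg.Agent.H314.Co3.Dim8

/-!
# S1920, case A: groups with small linear representations (helper314)
-/

set_option autoImplicit false

open Subgroup

namespace Cfsg.Agent.H314.Co3

/-- a 2-subgroup lifts through an epimorphism with kernel of odd order -/
theorem exists_lift {L G : Type*} [Group L] [Group G] [Finite L] (π : L →* G) (hπ : Function.Surjective π)
    (hk : Odd (Nat.card π.ker)) (T : Subgroup G) (hT : IsPGroup 2 T) : ∃ σ : ↥T →* L, ∀ t, π (σ t) = t := by
  have : Fact (Nat.Prime 2) := ⟨Nat.prime_two⟩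
  have : Finite G := Finite.of_surjective π hπ
  let M : Subgroup L := T.comap π
  obtain ⟨P⟩ : Nonempty (Sylow 2 ↥M) := inferInstance
  let f : ↥M →* ↥T := (π.comp M.subtype).codRestrict T fun x => x.2
  have hf : ∀ x : ↥M, ((f x : ↥T) : G) = π (x : L) := fun x => rfl
  have hfs : Function.Surjective f := by
    rintro ⟨t, ht⟩
    obtain ⟨x, hx⟩ := hπ t
    exact ⟨⟨x, by change π x ∈ T; rw [hx]; exact ht⟩, Subtype.ext hx⟩
  have hfk : f.ker.map M.subtype = π.ker := by
    ext x
    constructor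
    · rintro ⟨y, hy, rfl⟩
      have : f y = 1 := hy
      rw [MonoidHom.mem_ker, Subgroup.coe_subtype, ← hf, this]; rfl
    · intro hx
      have hx' : π x = 1 := hx
      refine ⟨⟨x, by change π x ∈ T; rw [hx']; exact one_mem _⟩, ?_, rfl⟩
      exact Subtype.ext hx'
  have hfkc : Nat.card f.ker = Nat.card π.ker := by
    rw [← hfk]; exact Nat.card_congr (f.ker.equivMapOfInjective M.subtype M.subtype_injective).toEquiv
  have hMc : Nat.card ↥M = Nat.card π.ker * Nat.card T := by
    rw [← hfkc, ← Subgroup.card_mul_index f.ker, Subgroup.index_ker, MonoidHom.range_eq_top.2 hfs,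
      Nat.card_congr Subgroup.topEquiv.toEquiv]
  obtain ⟨n, hn⟩ := IsPGroup.iff_card.1 hT
  have hPc : Nat.card P = Nat.card T := by
    rw [P.card_eq_multiplicity, hMc, hn, Nat.factorization_mul hk.pos.ne' (by positivity),
      Nat.Prime.factorization_pow Nat.prime_two]
    simp only [Finsupp.add_apply, Finsupp.single_eq_same]
    rw [Nat.factorization_eq_zero_of_not_dvd, zero_add]
    exact fun h => (Nat.not_even_iff_odd.2 hk) (even_iff_two_dvd.2 h)
  let g : ↥(P : Subgroup ↥M) →* ↥T := f.comp (P : Subgroup ↥M).subtype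
  have hg : Function.Injective g := by
    rw [injective_iff_map_eq_one]
    intro x hx
    have h1 : (x : ↥M) ∈ f.ker := hx
    have h2 : orderOf (x : ↥M) ∣ Nat.card f.ker := Subgroup.orderOf_dvd_natCard _ h1
    obtain ⟨k, hk'⟩ := (IsPGroup.iff_orderOf.1 P.2) x
    rw [Subgroup.orderOf_coe, hk', hfkc] at h2
    have h3 : k = 0 := by
      by_contra hk0
      exact (Nat.not_even_iff_odd.2 hk) (even_iff_two_dvd.2 ((dvd_pow_self 2 hk0).trans h2))
    rw [h3, pow_zero, orderOf_eq_one_iff] at hk'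
    exact hk'
  have hb : Function.Bijective g := (Nat.bijective_iff_injective_and_card g).2 ⟨hg, hPc⟩
  let e : ↥(P : Subgroup ↥M) ≃* ↥T := MulEquiv.ofBijective g hb
  refine ⟨(M.subtype.comp (P : Subgroup ↥M).subtype).comp e.symm.toMonoidHom, fun t => ?_⟩
  have h1 : e (e.symm t) = t := e.apply_symm_apply t
  have h2 : ((e (e.symm t) : ↥T) : G) = π (((e.symm t : ↥(P : Subgroup ↥M)) : ↥M) : L) := rfl
  rw [h1] at h2
  exact h2.symm

variable {G : Type*} [Group G]

namespace CA

variable {H N0 : Subgroup G} {z s : G} {ψ : ↥H →* Equiv.Perm (Fin 6)}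

theorem exists_TR [Finite G] (C : CA H N0 z s ψ) : ∃ T : Subgroup G, T ≤ H ∧ T ≤ normalizer (N0 : Set G) ∧ N0 ≤ T ∧
    IsPGroup 2 T ∧ Nat.card T = 2 ^ 10 ∧ ∃ r ∈ T, r * s ≠ s * r := by
  obtain ⟨T, hTH, hTN, hNT, hT2, hTc, hTk⟩ := C.exists_T
  refine ⟨T, hTH, hTN, hNT, hT2, hTc, ?_⟩
  by_contra hcon
  push Not at hcon
  let f : ↥T →* Equiv.Perm (Fin 6) := ψ.comp (Subgroup.inclusion hTH)
  have hr : f.range ≤ alternatingGroup (Fin 6) := by
    rintro _ ⟨t, rfl⟩
    rw [Equiv.Perm.mem_alternatingGroup]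
    exact (C.inv_s ⟨t, hTH t.2⟩ (hTN t.2)).2 (hcon t t.2)
  have hkN : f.ker.map T.subtype ≤ N0 := by
    rintro _ ⟨a, ha, rfl⟩
    exact hTk ⟨a, hTH a.2⟩ a.2 ha
  have h1 : Nat.card f.ker ∣ 64 := by
    rw [← C.card, Nat.card_congr (f.ker.equivMapOfInjective T.subtype T.subtype_injective).toEquiv]
    exact Subgroup.card_dvd_of_le hkN
  have h2 : Nat.card f.ker * Nat.card f.range = 2 ^ 10 := by
    rw [← hTc, ← Subgroup.index_ker]; exact Subgroup.card_mul_index f.ker
  have h3 : Nat.card f.range ∣ 360 := by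
    have h4 := Subgroup.card_dvd_of_le hr
    rwa [Nat.card_eq_fintype_card (α := alternatingGroup (Fin 6)),
      show Fintype.card (alternatingGroup (Fin 6)) = 360 by
        have h5 := two_mul_card_alternatingGroup (α := Fin 6)
        rw [Fintype.card_perm, Fintype.card_fin, show Nat.factorial 6 = 720 by rfl] at h5
        omega] at h4
  obtain ⟨k, hk⟩ := h1
  have h4 : 16 * k = Nat.card f.range := by
    have h5 : 0 < Nat.card f.ker := Nat.card_pos
    apply Nat.eq_of_mul_eq_mul_left h5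
    rw [h2]
    calc Nat.card f.ker * (16 * k) = 16 * (Nat.card f.ker * k) := by ring
      _ = 2 ^ 10 := by rw [← hk]; norm_num
  have h5 : 16 ∣ 360 := (Dvd.intro _ h4).trans h3
  norm_num at h5

/-- **no small linear representation in odd characteristic** -/
theorem lin_core [Finite G] (C : CA H N0 z s ψ) {ι F : Type*} [Fintype ι] [DecidableEq ι] [Field F] (h2 : (2 : F) ≠ 0)
    {L : Type*} [Group L] [Finite L] (π : L →* G) (hπ : Function.Surjective π) (hk : Odd (Nat.card π.ker))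
    (ρ : L →* Matrix ι ι F) (hρ : Function.Injective ρ) :
    8 ≤ Fintype.card ι ∧ (Fintype.card ι = 8 → ∃ y : L, π y = z ∧ ρ y = -1) := by
  obtain ⟨T, hTH, hTN, hNT, hT2, -, r, hrT, hr⟩ := C.exists_TR
  obtain ⟨σ, hσ⟩ := exists_lift π hπ hk T hT2
  let K := AlgebraicClosure F
  let m : Matrix ι ι F →* Matrix ι ι K := ((algebraMap F K).mapMatrix : Matrix ι ι F →+* Matrix ι ι K)
  have hm : Function.Injective m := by
    intro x y hxy
    ext i j
    have := congrFun (congrFun hxy i) j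
    exact (algebraMap F K).injective this
  let l : Matrix ι ι K ≃ₐ[K] ((ι → K) →ₗ[K] (ι → K)) := Matrix.toLinAlgEquiv'
  let P : ↥T →* ((ι → K) →ₗ[K] (ι → K)) := ((l : Matrix ι ι K →* _).comp m).comp (ρ.comp σ)
  have hPe : ∀ t, P t = l (m (ρ (σ t))) := fun t => rfl
  obtain ⟨i, hi⟩ : ∃ i : K, i * i = -1 := by
    obtain ⟨i, hi⟩ := IsAlgClosed.exists_pow_nat_eq (-1 : K) (n := 2) (by norm_num)
    exact ⟨i, by rw [← pow_two, hi]⟩
  have h2K : (2 : K) ≠ 0 := by
    intro h
    apply h2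
    apply (algebraMap F K).injective
    rw [map_ofNat, map_zero]
    exact h
  have hinjP : ∀ t, P t = 1 → t = 1 := by
    intro t ht
    rw [hPe] at ht
    have h3 : m (ρ (σ t)) = m (ρ 1) := by
      apply l.injective
      rw [ht, map_one, map_one, map_one]
    have h4 : σ t = 1 := hρ (hm h3)
    apply Subtype.ext
    rw [← hσ, h4, map_one]; rfl
  have hz : P ⟨z, hNT C.zN⟩ ≠ 1 := fun h => C.z_ne (congrArg Subtype.val (hinjP _ h))
  obtain ⟨h3, h4⟩ := C.dim_eight h2K hi hNT hrT (hTH hrT) (hTN hrT) hr P hz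
  rw [Module.finrank_fintype_fun_eq_card] at h3 h4
  refine ⟨h3, fun h8 => ⟨σ ⟨z, hNT C.zN⟩, hσ _, ?_⟩⟩
  have h5 := h4 h8
  rw [hPe] at h5
  apply hm
  apply l.injective
  rw [h5]
  have h6 : m (-1) = -1 := by
    change ((algebraMap F K).mapMatrix : Matrix ι ι F →+* Matrix ι ι K) (-1) = -1
    rw [map_neg, map_one]
  rw [h6, map_neg, map_one]

end CA

end Cfsg.Agent.H314.Co3
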