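import Cfsg.Agent.H314.Co3.Eng
import Cfsg.Agent.H285.TwoExact

/-!
# S1920, case A: arithmetic of the 2-parts (helper314)
-/

set_option autoImplicit false

namespace Cfsg.Agent.H314.Co3.Num

open Cfsg Cfsg.Agent.OrdDiv Cfsg.Agent.H285 Cfsg.Agent.H285.TwoPart

theorem v_odd {n : ℕ} (h : Odd n) : n.factorization 2 = 0 :=
  Nat.factorization_eq_zero_of_not_dvd fun h' => (Nat.not_even_iff_odd.2 h) (even_iff_two_dvd.2 h')

theorem v_mul {a b : ℕ} (ha : a ≠ 0) (hb : b ≠ 0) :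
    (a * b).factorization 2 = a.factorization 2 + b.factorization 2 := by
  rw [Nat.factorization_mul ha hb, Finsupp.add_apply]

theorem v_pow (a k : ℕ) : (a ^ k).factorization 2 = k * a.factorization 2 := by
  rw [Nat.factorization_pow, Finsupp.smul_apply, smul_eq_mul]

theorem v_two : (2 : ℕ).factorization 2 = 1 := Nat.Prime.factorization_self Nat.prime_two

theorem v_four : (4 : ℕ).factorization 2 = 2 := by
  rw [show (4 : ℕ) = 2 ^ 2 by norm_num, v_pow, v_two]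

theorem dvd_of_v {n k : ℕ} (hn : n ≠ 0) (h : k ≤ n.factorization 2) : 2 ^ k ∣ n :=
  (Nat.Prime.pow_dvd_iff_le_factorization Nat.prime_two hn).2 h

/-- squares -/
theorem sq32 {c x y : ℕ} (hx : x ≠ 0) (hy : Odd y) (h : c = y * x ^ 2) (hc : c.factorization 2 = 10) : 32 ∣ x := by
  rw [h, v_mul hy.pos.ne' (pow_ne_zero 2 hx), v_odd hy, v_pow] at hc
  exact dvd_of_v (k := 5) hx (by omega)

/-- cubes -/
theorem cube_ne {c x y : ℕ} (hx : x ≠ 0) (hy : Odd y) (h : c = y * x ^ 3) (hc : c.factorization 2 = 10) : False := by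
  rw [h, v_mul hy.pos.ne' (pow_ne_zero 3 hx), v_odd hy, v_pow] at hc
  omega

/-- `q ^ 2 - 1` and its companions -/
theorem x_ne {q : ℕ} (hq1 : 1 < q) : q ^ 2 - 1 ≠ 0 := by
  have : 2 ^ 2 ≤ q ^ 2 := Nat.pow_le_pow_left hq1 2
  omega

theorem q4 {q : ℕ} : q ^ 4 - 1 = (q ^ 2 - 1) * (q ^ 2 + 1) := by
  have h := Nat.sq_sub_sq (q ^ 2) 1
  rw [one_pow] at h
  rw [show q ^ 4 = (q ^ 2) ^ 2 by ring, h, mul_comm]

theorem q6 {q : ℕ} (hq1 : 1 < q) : q ^ 6 - 1 = (q ^ 2 - 1) * (q ^ 4 + q ^ 2 + 1) := by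
  obtain ⟨x, hx⟩ : ∃ x, q ^ 2 = x + 1 := ⟨q ^ 2 - 1, by have := x_ne hq1; omega⟩
  rw [show q ^ 6 = (q ^ 2) ^ 3 by ring, show q ^ 4 = (q ^ 2) ^ 2 by ring, hx, Nat.add_sub_cancel]
  apply Nat.sub_eq_of_eq_add
  ring

theorem half_odd {q : ℕ} (hq : Odd q) : ∃ y, Odd y ∧ q ^ 2 + 1 = 2 * y := by
  obtain ⟨k, rfl⟩ := hq
  exact ⟨2 * (k ^ 2 + k) + 1, ⟨k ^ 2 + k, rfl⟩, by ring⟩

theorem odd_q4 {q : ℕ} (hq : Odd q) : Odd (q ^ 4 + q ^ 2 + 1) := by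
  have h4 : Odd (q ^ 4) := hq.pow
  have h2 : Odd (q ^ 2) := hq.pow
  exact (h4.add_odd h2).add_one

theorem odd_q8 {q : ℕ} (hq : Odd q) : Odd (q ^ 8 + q ^ 4 + 1) := by
  have h4 : Odd (q ^ 8) := hq.pow
  have h2 : Odd (q ^ 4) := hq.pow
  exact (h4.add_odd h2).add_one

theorem psp4 {q c : ℕ} (hq : Odd q) (hq1 : 1 < q) (h : fPSp.den 2 q * c = fPSp.num 2 q) (hc : c.factorization 2 = 10) :
    32 ∣ q ^ 2 - 1 := by
  change Nat.gcd 2 (q - 1) * c = q ^ (2 ^ 2) * prB q 2 at h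
  obtain ⟨y, hy, hy2⟩ := half_odd hq
  have hg : Nat.gcd 2 (q - 1) = 2 := by
    apply Nat.gcd_eq_left
    obtain ⟨k, rfl⟩ := hq
    exact ⟨k, by omega⟩
  rw [hg, prB_two, q4, hy2] at h
  have e : c = (q ^ 4 * y) * (q ^ 2 - 1) ^ 2 := by
    have : 2 * c = 2 * ((q ^ 4 * y) * (q ^ 2 - 1) ^ 2) := by rw [h]; ring
    omega
  exact sq32 (x_ne hq1) (hq.pow.mul hy) e hc

theorem psp6 {q c : ℕ} (hq : Odd q) (hq1 : 1 < q) (h : 2 * c = q ^ 9 * prB q 3) (hc : c.factorization 2 = 10) : False := by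
  obtain ⟨y, hy, hy2⟩ := half_odd hq
  rw [prB_three, q4, hy2, q6 hq1] at h
  have e : c = (q ^ 9 * y * (q ^ 4 + q ^ 2 + 1)) * (q ^ 2 - 1) ^ 3 := by
    have : 2 * c = 2 * ((q ^ 9 * y * (q ^ 4 + q ^ 2 + 1)) * (q ^ 2 - 1) ^ 3) := by rw [h]; ring
    omega
  exact cube_ne (x_ne hq1) ((hq.pow.mul hy).mul (odd_q4 hq)) e hc

theorem g2 {q c : ℕ} (hq : Odd q) (hq1 : 1 < q) (h : c = q ^ 6 * (q ^ 2 - 1) * (q ^ 6 - 1))
    (hc : c.factorization 2 = 10) : 32 ∣ q ^ 2 - 1 := by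
  rw [q6 hq1] at h
  have e : c = (q ^ 6 * (q ^ 4 + q ^ 2 + 1)) * (q ^ 2 - 1) ^ 2 := by rw [h]; ring
  exact sq32 (x_ne hq1) (hq.pow.mul (odd_q4 hq)) e hc

theorem td4 {q c : ℕ} (hq : Odd q) (hq1 : 1 < q) (h : c = q ^ 12 * (q ^ 2 - 1) * (q ^ 6 - 1) * (q ^ 8 + q ^ 4 + 1))
    (hc : c.factorization 2 = 10) : 32 ∣ q ^ 2 - 1 := by
  rw [q6 hq1] at h
  have e : c = (q ^ 12 * (q ^ 4 + q ^ 2 + 1) * (q ^ 8 + q ^ 4 + 1)) * (q ^ 2 - 1) ^ 2 := by rw [h]; ring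
  exact sq32 (x_ne hq1) ((hq.pow.mul (odd_q4 hq)).mul (odd_q8 hq)) e hc

/-- `PSL_4` -/
theorem psl4 {q c : ℕ} (hq : Odd q) (hq1 : 1 < q) (h : fPSL.den 4 q * c = fPSL.num 4 q) (hc : c.factorization 2 = 10) :
    8 ∣ q - 1 := by
  change Nat.gcd 4 (q - 1) * (q - 1) * c = glN 4 q at h
  have hg : glN 4 q = q ^ 6 * ((q - 1) * (q ^ 2 - 1) * (q ^ 3 - 1) * (q ^ 4 - 1)) := by
    rw [TwoExact.glN_eq]
    simp only [Finset.prod_range_succ, Finset.prod_range_zero, one_mul, zero_add, pow_one, Nat.reduceAdd, pow_zero]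
    ring
  rw [hg] at h
  have hq0 : 0 < q - 1 := by omega
  have h1 : Nat.gcd 4 (q - 1) * c = q ^ 6 * ((q ^ 2 - 1) * (q ^ 3 - 1) * (q ^ 4 - 1)) := by
    apply Nat.eq_of_mul_eq_mul_left hq0
    calc (q - 1) * (Nat.gcd 4 (q - 1) * c) = Nat.gcd 4 (q - 1) * (q - 1) * c := by ring
      _ = _ := by rw [h]; ring
  obtain ⟨y, hy, hy2⟩ := half_odd hq
  have hc0 : c ≠ 0 := by
    rintro rfl
    simp at hc
  have q3 : q ^ 3 - 1 = (q - 1) * (q ^ 2 + q + 1) := by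
    obtain ⟨x, rfl⟩ : ∃ x, q = x + 1 := ⟨q - 1, by omega⟩
    rw [Nat.add_sub_cancel]
    apply Nat.sub_eq_of_eq_add
    ring
  have q2 : q ^ 2 - 1 = (q - 1) * (q + 1) := by
    have := Nat.sq_sub_sq q 1
    rw [one_pow] at this
    rw [this, mul_comm]
  have ho : Odd (q ^ 2 + q + 1) := by
    have h2 : Odd (q ^ 2) := hq.pow
    exact (h2.add_odd hq).add_one
  have hq4 : q % 4 = 1 ∨ q % 4 = 3 := by
    obtain ⟨k, rfl⟩ := hq
    omega
  have hq6 : Odd (q ^ 6) := hq.pow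
  rcases hq4 with hq4 | hq4
  · have hg4 : Nat.gcd 4 (q - 1) = 4 := Nat.gcd_eq_left (by omega)
    obtain ⟨w, hw, hw2⟩ : ∃ w, Odd w ∧ q + 1 = 2 * w := ⟨(q + 1) / 2, by rw [Nat.odd_iff]; omega, by omega⟩
    rw [hg4, q4, hy2, q3, q2, hw2] at h1
    have e : c = (q ^ 6 * w ^ 2 * (q ^ 2 + q + 1) * y) * (2 * (q - 1) ^ 3) := by
      have : 4 * c = 4 * ((q ^ 6 * w ^ 2 * (q ^ 2 + q + 1) * y) * (2 * (q - 1) ^ 3)) := by rw [h1]; ring
      omega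
    have hw' : Odd (w ^ 2) := hw.pow
    have hall := ((hq6.mul hw').mul ho).mul hy
    rw [e, v_mul hall.pos.ne' (by positivity), v_odd hall, v_mul (by norm_num) (by positivity), v_two, v_pow] at hc
    exact dvd_of_v (k := 3) hq0.ne' (by omega)
  · exfalso
    have hg2 : Nat.gcd 4 (q - 1) = 2 := by
      obtain ⟨k, hk⟩ : ∃ k, q - 1 = 4 * k + 2 := ⟨(q - 1) / 4, by omega⟩
      rw [hk]
      have h' : (4 * k + 2) % 4 = 2 := by omega
      rw [Nat.gcd_rec, h']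
      decide
    obtain ⟨w, hw, hw2⟩ : ∃ w, Odd w ∧ q - 1 = 2 * w := ⟨(q - 1) / 2, by rw [Nat.odd_iff]; omega, by omega⟩
    rw [hg2, q4, hy2, q3, hw2] at h1
    have hx := x_ne hq1
    have e : c = (q ^ 6 * w * (q ^ 2 + q + 1) * y) * (2 * (q ^ 2 - 1) ^ 2) := by
      have : 2 * c = 2 * ((q ^ 6 * w * (q ^ 2 + q + 1) * y) * (2 * (q ^ 2 - 1) ^ 2)) := by rw [h1]; ring
      omega
    have hall := ((hq6.mul hw).mul ho).mul hy
    rw [e, v_mul hall.pos.ne' (by positivity), v_odd hall, v_mul (by norm_num) (by positivity), v_two, v_pow] at hc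
    omega

/-- `PSU_4` -/
theorem psu4 {q c : ℕ} (hq : Odd q) (hq1 : 1 < q) (h : fPSU.den 4 q * c = fPSU.num 4 q) (hc : c.factorization 2 = 10) :
    8 ∣ q + 1 := by
  change Nat.gcd 4 (q + 1) * (q + 1) * c = q ^ (4 * (4 - 1) / 2) * prU q 4 at h
  have hg : prU q 4 = (q + 1) * (q ^ 2 - 1) * (q ^ 3 + 1) * (q ^ 4 - 1) := by
    unfold prU
    rw [prod_list]
    simp [Finset.prod_range_succ]
  rw [hg] at h
  have hq0 : 0 < q + 1 := by omega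
  have h1 : Nat.gcd 4 (q + 1) * c = q ^ 6 * ((q ^ 2 - 1) * (q ^ 3 + 1) * (q ^ 4 - 1)) := by
    apply Nat.eq_of_mul_eq_mul_left hq0
    calc (q + 1) * (Nat.gcd 4 (q + 1) * c) = Nat.gcd 4 (q + 1) * (q + 1) * c := by ring
      _ = _ := by rw [h]; norm_num; ring
  obtain ⟨y, hy, hy2⟩ := half_odd hq
  have q3 : q ^ 3 + 1 = (q + 1) * (q ^ 2 - q + 1) := by
    have h2 : q ≤ q ^ 2 := by nlinarith
    obtain ⟨d, hd⟩ : ∃ d, q ^ 2 = q + d := ⟨q ^ 2 - q, by omega⟩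
    have e1 : q ^ 2 - q + 1 = d + 1 := by omega
    rw [e1]
    have e2 : q ^ 3 = q * (q + d) := by rw [← hd]; ring
    rw [e2]
    nlinarith
  have q2 : q ^ 2 - 1 = (q + 1) * (q - 1) := by
    have := Nat.sq_sub_sq q 1
    rw [one_pow] at this
    rw [this]
  have ho : Odd (q ^ 2 - q + 1) := by
    have h2 : Even (q ^ 2 - q) := by
      have : q ^ 2 - q = q * (q - 1) := by rw [Nat.mul_sub, mul_one, pow_two]
      rw [this]
      exact Even.mul_left (by obtain ⟨k, rfl⟩ := hq; exact ⟨k, by omega⟩) q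
    exact h2.add_one
  have hq4 : q % 4 = 1 ∨ q % 4 = 3 := by
    obtain ⟨k, rfl⟩ := hq
    omega
  have hq6 : Odd (q ^ 6) := hq.pow
  rcases hq4 with hq4 | hq4
  · exfalso
    have hg2 : Nat.gcd 4 (q + 1) = 2 := by
      obtain ⟨k, hk⟩ : ∃ k, q + 1 = 4 * k + 2 := ⟨(q + 1) / 4, by omega⟩
      rw [hk]
      have h' : (4 * k + 2) % 4 = 2 := by omega
      rw [Nat.gcd_rec, h']
      decide
    obtain ⟨w, hw, hw2⟩ : ∃ w, Odd w ∧ q + 1 = 2 * w := ⟨(q + 1) / 2, by rw [Nat.odd_iff]; omega, by omega⟩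
    rw [hg2, q4, hy2, q3, hw2] at h1
    have hx := x_ne hq1
    have e : c = (q ^ 6 * w * (q ^ 2 - q + 1) * y) * (2 * (q ^ 2 - 1) ^ 2) := by
      have : 2 * c = 2 * ((q ^ 6 * w * (q ^ 2 - q + 1) * y) * (2 * (q ^ 2 - 1) ^ 2)) := by rw [h1]; ring
      omega
    have hall := ((hq6.mul hw).mul ho).mul hy
    rw [e, v_mul hall.pos.ne' (by positivity), v_odd hall, v_mul (by norm_num) (by positivity), v_two, v_pow] at hc
    omega
  · have hg4 : Nat.gcd 4 (q + 1) = 4 := Nat.gcd_eq_left (by omega)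
    obtain ⟨w, hw, hw2⟩ : ∃ w, Odd w ∧ q - 1 = 2 * w := ⟨(q - 1) / 2, by rw [Nat.odd_iff]; omega, by omega⟩
    rw [hg4, q4, hy2, q3, q2, hw2] at h1
    have e : c = (q ^ 6 * w ^ 2 * (q ^ 2 - q + 1) * y) * (2 * (q + 1) ^ 3) := by
      have : 4 * c = 4 * ((q ^ 6 * w ^ 2 * (q ^ 2 - q + 1) * y) * (2 * (q + 1) ^ 3)) := by rw [h1]; ring
      omega
    have hw' : Odd (w ^ 2) := hw.pow
    have hall := ((hq6.mul hw').mul ho).mul hy
    rw [e, v_mul hall.pos.ne' (by positivity), v_odd hall, v_mul (by norm_num) (by positivity), v_two, v_pow] at hc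
    exact dvd_of_v (k := 3) hq0.ne' (by omega)

/-- `PSL_2` -/
theorem psl2 {q c : ℕ} (hq : Odd q) (hq1 : 1 < q) (h : fPSL.den 2 q * c = fPSL.num 2 q) (hc : c.factorization 2 = 10) :
    2 ^ 9 ∣ (q - 1) / 2 ∨ 2 ^ 9 ∣ (q + 1) / 2 := by
  change Nat.gcd 2 (q - 1) * (q - 1) * c = glN 2 q at h
  have hg : glN 2 q = q * ((q - 1) * (q ^ 2 - 1)) := by
    rw [TwoExact.glN_eq]
    simp [Finset.prod_range_succ]
  have hg2 : Nat.gcd 2 (q - 1) = 2 := by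
    apply Nat.gcd_eq_left
    obtain ⟨k, rfl⟩ := hq
    exact ⟨k, by omega⟩
  have hq0 : 0 < q - 1 := by omega
  rw [hg, hg2] at h
  have h1 : 2 * c = q * (q ^ 2 - 1) := by
    apply Nat.eq_of_mul_eq_mul_left hq0
    calc (q - 1) * (2 * c) = 2 * (q - 1) * c := by ring
      _ = _ := by rw [h]; ring
  have q2 : q ^ 2 - 1 = (q + 1) * (q - 1) := by
    have := Nat.sq_sub_sq q 1
    rw [one_pow] at this
    rw [this]
  have hc0 : c ≠ 0 := by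
    rintro rfl
    simp at hc
  obtain ⟨a, ha⟩ : ∃ a, q = 2 * a + 1 := id hq
  have ea : (q - 1) / 2 = a := by omega
  have eb : (q + 1) / 2 = a + 1 := by omega
  have h2 : 2 * c = 2 * (2 * (q * (a * (a + 1)))) := by
    rw [h1, q2, show q + 1 = 2 * (a + 1) by omega, show q - 1 = 2 * a by omega]; ring
  have h3 : c = 2 * (q * (a * (a + 1))) := by omega
  have ha0 : a ≠ 0 := by omega
  rw [h3, v_mul (by norm_num) (by positivity), v_two, v_mul (by omega) (by positivity), v_odd hq,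
    v_mul ha0 (by omega)] at hc
  rw [ea, eb]
  rcases Nat.even_or_odd a with hae | hao
  · left
    have : Odd (a + 1) := hae.add_one
    rw [v_odd this] at hc
    exact dvd_of_v ha0 (by omega)
  · right
    rw [v_odd hao] at hc
    exact dvd_of_v (by omega) (by omega)

end Cfsg.Agent.H314.Co3.Num
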