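import Cfsg.Agent.H314.Co3.AbelT

/-!
# S1920, case A: the alternating groups (helper314)
-/

set_option autoImplicit false

open Subgroup Cfsg

namespace Cfsg.Agent.H314.Co3

variable {G : Type*} [Group G] {H N0 : Subgroup G} {z s : G} {ψ : ↥H →* Equiv.Perm (Fin 6)}

namespace CA

/-- a subgroup of `N0` that does not contain `z` has order at most `4` -/
theorem card_no_z [Finite G] (C : CA H N0 z s ψ) {S : Subgroup G} (hS : S ≤ N0) (hz : z ∉ S) : Nat.card S ≤ 4 := by
  have hab : ∀ x ∈ S, ∀ y ∈ S, x * y = y * x := by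
    intro x hx y hy
    rcases C.comm x (hS hx) y (hS hy) with h | h
    · exact h
    · exfalso
      apply hz
      have h1 : z = x * y * (y * x)⁻¹ := by rw [h]; group
      rw [h1]
      exact mul_mem (mul_mem hx hy) (inv_mem (mul_mem hy hx))
  have hns : ∀ t ∈ zpowers s, t ∈ S → t = 1 := by
    intro t ht htS
    obtain ⟨k, rfl⟩ := mem_zpowers_iff.1 ht
    by_contra hne
    have h4 : s ^ 4 = 1 := C.s_pow
    have hss : s ^ (2 : ℤ) = z := by
      have : s ^ (2 : ℤ) = s * s := _root_.zpow_two s
      rw [this, C.s_sq]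
    have h4' : s ^ (4 : ℤ) = 1 := by exact_mod_cast h4
    have hk : s ^ k = s ^ (k % 4) := by
      conv_lhs => rw [← Int.emod_add_mul_ediv k 4]
      rw [_root_.zpow_add, _root_.zpow_mul, h4', _root_.one_zpow, mul_one]
    have h1 : k % 4 = 0 ∨ k % 4 = 1 ∨ k % 4 = 2 ∨ k % 4 = 3 := by omega
    rw [hk] at htS hne
    apply hz
    rcases h1 with h | h | h | h
    · rw [h, zpow_zero] at hne; exact (hne rfl).elim
    · rw [h, zpow_one] at htS
      rw [← C.s_sq]; exact mul_mem htS htS
    · rw [h, hss] at htS; exact htS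
    · rw [h] at htS
      have h2 : z = s ^ (3 : ℤ) * s ^ (3 : ℤ) := by
        rw [← _root_.zpow_add]
        have : ((3 : ℤ) + 3) = 4 + 2 := by norm_num
        rw [this, _root_.zpow_add, h4', one_mul, hss]
      rw [h2]; exact mul_mem htS htS
  let D : Subgroup G := closure (insert s (S : Set G))
  have h1 : D ≤ N0 := by
    rw [closure_le]
    intro x hx
    rcases hx with rfl | hx
    · exact C.sN
    · exact hS hx
  have h2 : IsMulCommutative D := by
    apply Subgroup.isMulCommutative_closure
    intro x hx y hy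
    rcases hx with rfl | hx
    · rcases hy with rfl | hy
      · rfl
      · exact (C.s_cen y (hS hy)).symm
    · rcases hy with rfl | hy
      · exact C.s_cen x (hS hx)
      · exact hab x hx y hy
  have h3 : Nat.card D ≤ 16 := C.card_abel h1 fun x hx y hy => by
    have := h2.is_comm.comm (⟨x, hx⟩ : D) ⟨y, hy⟩
    exact congrArg Subtype.val this
  have hSD : S ≤ D := fun x hx => subset_closure (Or.inr hx)
  have hsD : s ∈ D := subset_closure (Or.inl rfl)
  have h4 : Nat.card (zpowers s) = 4 := by
    rw [Nat.card_zpowers]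
    refine orderOf_eq_prime_pow (p := 2) (n := 1) ?_ ?_
    · rw [pow_one, pow_two, C.s_sq]; exact C.z_ne
    · exact C.s_pow
  have h5 : Nat.card (S × zpowers s) ≤ Nat.card D := by
    refine Nat.card_le_card_of_injective
      (fun p => (⟨(p.1 : G) * (p.2 : G), mul_mem (hSD p.1.2) (zpowers_le.2 hsD p.2.2)⟩ : D)) ?_
    rintro ⟨⟨a, ha⟩, ⟨t, ht⟩⟩ ⟨⟨b, hb⟩, ⟨u, hu⟩⟩ h
    have h6 : a * t = b * u := congrArg Subtype.val h
    have h7 : b⁻¹ * a = u * t⁻¹ := by
      rw [eq_mul_inv_iff_mul_eq, mul_assoc, h6]; group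
    have h8 : u * t⁻¹ = 1 := hns _ (mul_mem hu (inv_mem ht)) (by rw [← h7]; exact mul_mem (inv_mem hb) ha)
    have h9 : u = t := by rwa [mul_inv_eq_one] at h8
    have h10 : b = a := by rw [h8] at h7; exact inv_mul_eq_one.1 h7
    subst h9 h10
    rfl
  rw [Nat.card_prod, h4] at h5
  omega

end CA

/-- `G` does not act faithfully on a set of fewer than 16 points -/
theorem row_perm [Finite G] (C : CA H N0 z s ψ) {n : ℕ} (hn : n ≤ 15) (f : G →* Equiv.Perm (Fin n))
    (hf : Function.Injective f) : False := by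
  classical
  have hz1 : f z ≠ 1 := fun h => C.z_ne (hf (by rw [h, map_one]))
  obtain ⟨x, hx⟩ : ∃ x, f z x ≠ x := by
    by_contra h
    push Not at h
    exact hz1 (Equiv.ext h)
  let : MulAction N0 (Fin n) := MulAction.compHom (Fin n) (f.comp N0.subtype)
  have hsm : ∀ (g : N0) (y : Fin n), g • y = f g y := fun g y => rfl
  have := Fintype.ofFinite N0
  have := Fintype.ofFinite (MulAction.stabilizer N0 x)
  have h1 := MulAction.card_orbit_mul_card_stabilizer_eq_card_group N0 x
  have h2 : Nat.card (MulAction.orbit N0 x) ≤ 15 := by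
    refine (Nat.card_le_card_of_injective (Subtype.val : MulAction.orbit N0 x → Fin n) Subtype.val_injective).trans ?_
    rw [Nat.card_eq_fintype_card, Fintype.card_fin]
    exact hn
  have h3 : Nat.card ((MulAction.stabilizer N0 x).map N0.subtype) ≤ 4 := by
    refine C.card_no_z ?_ ?_
    · rintro y ⟨w, -, rfl⟩
      exact w.2
    · rintro ⟨w, hw, hwz⟩
      have h4 : w • x = x := hw
      rw [hsm] at h4
      apply hx
      have h5 : (w : G) = z := hwz
      rw [← h5]; exact h4
  rw [Subgroup.card_map_of_injective N0.subtype_injective] at h3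
  rw [← Nat.card_eq_fintype_card, ← Nat.card_eq_fintype_card, ← Nat.card_eq_fintype_card, C.card] at h1
  have h4 : Nat.card (MulAction.orbit N0 x) * Nat.card (MulAction.stabilizer N0 x) ≤ 15 * 4 := Nat.mul_le_mul h2 h3
  omega

theorem row_alt [Finite G] (C : CA H N0 z s ψ) {n : ℕ} (hn : n ≤ 15) (e : G ≃* ↥(alternatingGroup (Fin n))) :
    False :=
  row_perm C hn ((alternatingGroup (Fin n)).subtype.comp e.toMonoidHom)
    ((alternatingGroup (Fin n)).subtype_injective.comp e.injective)

end Cfsg.Agent.H314.Co3
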