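import Cfsg.Agent.H314.Co3.Two
import Cfsg.Agent.H314.Co3.Num
import Cfsg.Agent.S0279
import Cfsg.Agent.LieClassical.SUBasic

/-!
# S1920, case A: linear and unitary groups (helper314)
-/

set_option autoImplicit false

open Subgroup Cfsg Matrix
open scoped MatrixGroups

namespace Cfsg.Agent.H314.Co3

open Cfsg.Agent.OrdDiv

theorem odd_card_of {X : Type*} [Group X] [Finite X] (h : ∀ x : X, x * x = 1 → x = 1) : Odd (Nat.card X) := by
  rw [← Nat.not_even_iff_odd]
  intro he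
  have : Fact (Nat.Prime 2) := ⟨Nat.prime_two⟩
  obtain ⟨x, hx⟩ := exists_prime_orderOf_dvd_card' (G := X) 2 he.two_dvd
  have h1 : x * x = 1 := by
    have := pow_orderOf_eq_one x
    rwa [hx, pow_two] at this
  rw [h x h1, orderOf_one] at hx
  exact absurd hx (by norm_num)

theorem two_ne {F : Type*} [Field F] [Fintype F] (h : Odd (Fintype.card F)) : (2 : F) ≠ 0 :=
  (ClassicalGeometry.PSLTorus.two_ne_zero_iff_odd F).2 h

variable {G : Type*} [Group G] {H N0 : Subgroup G} {z s : G} {ψ : ↥H →* Equiv.Perm (Fin 6)}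

/-- **the diagonal group of exponent 8** -/
theorem CA.kill8 [Finite G] (C : CA H N0 z s ψ) {X : Type*} [CommGroup X] {u : X} (hu : orderOf u = 8)
    (f : ↥(zpowers u) × ↥(zpowers u) × ↥(zpowers u) →* G)
    (hf : ∀ a b c, f (a, b, c) = 1 → a = b ∧ b = c ∧ a ^ 4 = 1) : False := by
  have hcu : Nat.card ↥(zpowers u) = 8 := by rw [Nat.card_zpowers, hu]
  have : Finite ↥(zpowers u) := Nat.finite_of_card_ne_zero (by omega)
  have hcard : Nat.card (↥(zpowers u) × ↥(zpowers u) × ↥(zpowers u)) = 2 ^ 9 := by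
    rw [Nat.card_prod, Nat.card_prod, hcu]; norm_num
  have hp : IsPGroup 2 f.range := (IsPGroup.of_card hcard).of_surjective f.rangeRestrict f.rangeRestrict_surjective
  have hcomm : ∀ a ∈ f.range, ∀ b ∈ f.range, a * b = b * a := by
    rintro _ ⟨a, rfl⟩ _ ⟨b, rfl⟩
    rw [← map_mul, ← map_mul, mul_comm]
  have hk : Nat.card f.ker ≤ 4 := by
    have h4 : Nat.card (powMonoidHom 4 : ↥(zpowers u) →* ↥(zpowers u)).ker = 4 := by
      rw [IsCyclic.card_powMonoidHom_ker, hcu]; rfl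
    rw [← h4]
    let g : ↥f.ker → (powMonoidHom 4 : ↥(zpowers u) →* ↥(zpowers u)).ker := fun p =>
      ⟨p.1.1, by
        rw [MonoidHom.mem_ker, powMonoidHom_apply]
        exact (hf p.1.1 p.1.2.1 p.1.2.2 p.2).2.2⟩
    apply Nat.card_le_card_of_injective g
    rintro ⟨⟨a, b, c⟩, h⟩ ⟨⟨a', b', c'⟩, h'⟩ hg
    have h1 : a = a' := congrArg Subtype.val hg
    obtain ⟨e1, e2, -⟩ := hf a b c h
    obtain ⟨e3, e4, -⟩ := hf a' b' c' h'
    apply Subtype.ext
    change (a, b, c) = (a', b', c')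
    rw [← e2, ← e1, ← e4, ← e3, h1]
  have hmul : Nat.card f.ker * Nat.card f.range = 2 ^ 9 := by
    rw [← hcard, ← Subgroup.index_ker]; exact Subgroup.card_mul_index f.ker
  have h128 : 128 ≤ Nat.card f.range := by
    by_contra hlt
    have : Nat.card f.ker * Nat.card f.range ≤ 4 * 127 := Nat.mul_le_mul hk (by omega)
    omega
  obtain ⟨z', hz'⟩ := (C.abel hp hcomm).2 h128
  let v : ↥(zpowers u) := ⟨u, mem_zpowers u⟩
  have hv : v ^ 4 ≠ 1 := fun h => by
    have h1 : u ^ 4 = 1 := congrArg Subtype.val h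
    have := orderOf_dvd_of_pow_eq_one h1
    rw [hu] at this
    exact absurd this (by norm_num)
  have h1 := hz' _ ⟨(v, 1, 1), rfl⟩
  have h2 := hz' _ ⟨(1, v, 1), rfl⟩
  rw [← map_pow] at h1 h2
  have e1 : ((v, 1, 1) : ↥(zpowers u) × ↥(zpowers u) × ↥(zpowers u)) ^ 4 = (v ^ 4, 1, 1) := by
    simp [Prod.pow_mk]
  have e2 : ((1, v, 1) : ↥(zpowers u) × ↥(zpowers u) × ↥(zpowers u)) ^ 4 = (1, v ^ 4, 1) := by
    simp [Prod.pow_mk]
  rw [e1] at h1
  rw [e2] at h2
  have n1 : f (v ^ 4, 1, 1) ≠ 1 := fun h => hv (hf _ _ _ h).1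
  have n2 : f (1, v ^ 4, 1) ≠ 1 := fun h => hv (hf _ _ _ h).1.symm
  have e : f (v ^ 4, 1, 1) = f (1, v ^ 4, 1) := by rw [h1.resolve_left n1, h2.resolve_left n2]
  have h3 : f (v ^ 4, (v ^ 4)⁻¹, 1) = 1 := by
    have h4 : ((v ^ 4, (v ^ 4)⁻¹, 1) : ↥(zpowers u) × ↥(zpowers u) × ↥(zpowers u)) = (v ^ 4, 1, 1) * (1, v ^ 4, 1)⁻¹ := by
      simp
    rw [h4, map_mul, map_inv, e, mul_inv_cancel]
  have h4 := (hf _ _ _ h3).2.1
  exact hv (inv_eq_one.1 h4)

/-! ### linear groups -/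

/-- the kernel of `SL_n → G`, `n` odd -/
theorem row_psl_odd [Finite G] (C : CA H N0 z s ψ) {F : Type} [Field F] [Fintype F] (hF : Odd (Fintype.card F))
    {n : ℕ} (hn : Odd n) (hn8 : n < 8) (e : G ≃* Matrix.ProjectiveSpecialLinearGroup (Fin n) F) : False := by
  classical
  let π : Matrix.SpecialLinearGroup (Fin n) F →* G := e.symm.toMonoidHom.comp (QuotientGroup.mk' _)
  have hπ : Function.Surjective π := e.symm.surjective.comp (QuotientGroup.mk'_surjective _)
  have hk : ∀ x, π x = 1 → x ∈ Subgroup.center (Matrix.SpecialLinearGroup (Fin n) F) := by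
    intro x hx
    have h1 : (QuotientGroup.mk' _ x : Matrix.ProjectiveSpecialLinearGroup (Fin n) F) = 1 := by
      apply e.symm.injective
      rw [map_one]; exact hx
    exact (QuotientGroup.eq_one_iff _).1 h1
  have hko : Odd (Nat.card π.ker) := by
    apply odd_card_of
    rintro ⟨x, hx⟩ hxx
    have hx1 : x * x = 1 := congrArg Subtype.val hxx
    obtain ⟨r, hr, hrx⟩ := Matrix.SpecialLinearGroup.mem_center_iff.1 (hk x hx)
    rw [Fintype.card_fin] at hr
    apply Subtype.ext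
    change x = 1
    have hn0 : 0 < n := hn.pos
    have h3 : r * r = 1 := by
      have h4 := congrArg (fun A : Matrix.SpecialLinearGroup (Fin n) F => A.1 ⟨0, hn0⟩ ⟨0, hn0⟩) hx1
      have h5 : ((x * x : Matrix.SpecialLinearGroup (Fin n) F) : Matrix (Fin n) (Fin n) F) = Matrix.scalar (Fin n) (r * r) := by
        rw [Matrix.SpecialLinearGroup.coe_mul, ← hrx, ← map_mul]
      change ((x * x : Matrix.SpecialLinearGroup (Fin n) F) : Matrix (Fin n) (Fin n) F) ⟨0, hn0⟩ ⟨0, hn0⟩ = _ at h4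
      rw [h5] at h4
      simpa using h4
    have h6 : r = 1 := by
      obtain ⟨k, rfl⟩ := hn
      rw [pow_succ, pow_mul, pow_two, h3, one_pow, one_mul] at hr
      exact hr
    apply Subtype.ext
    change (x : Matrix (Fin n) (Fin n) F) = 1
    rw [← hrx, h6, map_one]
  have h1 := (C.lin_core (two_ne hF) π hπ hko (slToMat n F) (by
    intro x y hxy
    exact Subtype.ext hxy)).1
  rw [Fintype.card_fin] at h1
  omega

theorem row_psl2 [Finite G] (C : CA H N0 z s ψ) {F : Type} [Field F] [Fintype F] (hF : Odd (Fintype.card F))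
    (e : G ≃* Matrix.ProjectiveSpecialLinearGroup (Fin 2) F) : False := by
  have hc := H285.TwoPart.psl_card (F := F) (n := 2) le_rfl
  rw [← Nat.card_congr e.toEquiv] at hc
  have h9 := Num.psl2 hF Fintype.one_lt_card hc C.two
  have h10 : 2 ^ 10 ∣ Fintype.card F - 1 ∨ 2 ^ 10 ∣ Fintype.card F + 1 := by
    obtain ⟨k, hk⟩ := hF
    rcases h9 with ⟨c, hc⟩ | ⟨c, hc⟩
    · exact Or.inl ⟨c, by omega⟩
    · exact Or.inr ⟨c, by omega⟩
  obtain ⟨a, ha⟩ := exists_ord F h10
  let x : G := e.symm (ClassicalGeometry.PSLTorus.pr F a)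
  have hx : ∀ n : ℕ, x ^ n = 1 → 2 ^ 9 ∣ n := by
    intro n hn
    have h1 : ClassicalGeometry.PSLTorus.pr F (a ^ n) = 1 := by
      apply e.symm.injective
      rw [map_one, map_pow, map_pow]; exact hn
    rw [ClassicalGeometry.PSLTorus.pr_eq_one_iff] at h1
    have h2 : a ^ (n * 2) = 1 := by
      rw [pow_mul]
      rcases h1 with h1 | h1 <;> rw [h1] <;> simp
    have h3 := orderOf_dvd_of_pow_eq_one h2
    rw [ha] at h3
    obtain ⟨c, hc⟩ := h3
    exact ⟨c, by omega⟩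
  have h1 : x ^ (2 ^ 10) = 1 := by
    have : a ^ (2 ^ 10) = 1 := by rw [← ha]; exact pow_orderOf_eq_one a
    change (e.symm (ClassicalGeometry.PSLTorus.pr F a)) ^ (2 ^ 10) = 1
    rw [← map_pow, ← map_pow, this, map_one, map_one]
  obtain ⟨k, -, hk⟩ := (Nat.dvd_prime_pow Nat.prime_two).1 (orderOf_dvd_of_pow_eq_one h1)
  refine C.kill_elt hk ?_
  have h2 := Nat.le_of_dvd (orderOf_pos x) (hx _ (pow_orderOf_eq_one x))
  exact lt_of_lt_of_le (by norm_num) h2

/-- a diagonal hom -/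
def dg4 {F : Type*} [Field F] (u : Fˣ) : ↥(zpowers u) × ↥(zpowers u) × ↥(zpowers u) →* SL(4, F) where
  toFun p := ⟨Matrix.diagonal ![((p.1 : Fˣ) : F), ((p.2.1 : Fˣ) : F), ((p.2.2 : Fˣ) : F),
      (((p.1 * p.2.1 * p.2.2)⁻¹ : ↥(zpowers u)) : Fˣ)], by
    rw [Matrix.det_diagonal, Fin.prod_univ_four]
    change ((p.1 : Fˣ) : F) * ((p.2.1 : Fˣ) : F) * ((p.2.2 : Fˣ) : F) *
      ((((p.1 * p.2.1 * p.2.2)⁻¹ : ↥(zpowers u)) : Fˣ) : F) = 1
    rw [← Units.val_mul, ← Units.val_mul, ← Units.val_mul]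
    have : (p.1 : Fˣ) * (p.2.1 : Fˣ) * (p.2.2 : Fˣ) * (((p.1 * p.2.1 * p.2.2)⁻¹ : ↥(zpowers u)) : Fˣ) = 1 := by
      have h : p.1 * p.2.1 * p.2.2 * (p.1 * p.2.1 * p.2.2)⁻¹ = 1 := mul_inv_cancel _
      exact congrArg Subtype.val h
    rw [this, Units.val_one]⟩
  map_one' := by
    apply Subtype.ext
    change Matrix.diagonal _ = 1
    rw [← Matrix.diagonal_one]
    congr 1
    funext i
    fin_cases i <;> simp
  map_mul' p q := by
    apply Subtype.ext
    change Matrix.diagonal _ = Matrix.diagonal _ * Matrix.diagonal _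
    rw [Matrix.diagonal_mul_diagonal]
    congr 1
    funext i
    fin_cases i
    · simp
    · simp
    · simp
    · change (((((p.1 * q.1) * (p.2.1 * q.2.1) * (p.2.2 * q.2.2))⁻¹ : ↥(zpowers u)) : Fˣ) : F) =
        ((((p.1 * p.2.1 * p.2.2)⁻¹ : ↥(zpowers u)) : Fˣ) : F) * ((((q.1 * q.2.1 * q.2.2)⁻¹ : ↥(zpowers u)) : Fˣ) : F)
      rw [← Units.val_mul, ← Subgroup.coe_mul]
      congr 2
      rw [← _root_.mul_inv_rev]
      congr 1
      simp only [mul_comm, mul_left_comm]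

theorem dg4_val {F : Type*} [Field F] (u : Fˣ) (p : ↥(zpowers u) × ↥(zpowers u) × ↥(zpowers u)) :
    (dg4 u p : Matrix (Fin 4) (Fin 4) F) = Matrix.diagonal ![((p.1 : Fˣ) : F), ((p.2.1 : Fˣ) : F), ((p.2.2 : Fˣ) : F),
      (((p.1 * p.2.1 * p.2.2)⁻¹ : ↥(zpowers u)) : Fˣ)] := rfl

theorem dg4_scalar {F : Type*} [Field F] {u : Fˣ} {a b c : ↥(zpowers u)} {r : F}
    (h : (dg4 u (a, b, c) : Matrix (Fin 4) (Fin 4) F) = Matrix.diagonal fun _ => r) :
    a = b ∧ b = c ∧ a ^ 4 = 1 := by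
  rw [dg4_val] at h
  have h1 := Matrix.diagonal_injective h
  have e0 : ((a : Fˣ) : F) = r := congrFun h1 0
  have e1 : ((b : Fˣ) : F) = r := congrFun h1 1
  have e2 : ((c : Fˣ) : F) = r := congrFun h1 2
  have e3 : ((((a * b * c)⁻¹ : ↥(zpowers u)) : Fˣ) : F) = r := congrFun h1 3
  have hab : a = b := Subtype.ext (Units.ext (e0.trans e1.symm))
  have hbc : b = c := Subtype.ext (Units.ext (e1.trans e2.symm))
  refine ⟨hab, hbc, ?_⟩
  have h3 : (a * b * c)⁻¹ = a := Subtype.ext (Units.ext (e3.trans e0.symm))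
  rw [← hbc, ← hab] at h3
  have h4 : a ^ 4 = (a * a * a) * a := by simp only [pow_succ, pow_zero, one_mul]
  rw [h4]
  nth_rewrite 4 [← h3]
  exact mul_inv_cancel _

theorem exists_u8 {F : Type*} [Field F] [Fintype F] (h : 8 ∣ Fintype.card F - 1) : ∃ u : Fˣ, orderOf u = 8 := by
  classical
  have hq : 1 < Fintype.card F := Fintype.one_lt_card
  obtain ⟨u, hu⟩ := IsCyclic.exists_ofOrder_eq_natCard (α := Fˣ)
  rw [Nat.card_eq_fintype_card, Fintype.card_units] at hu
  obtain ⟨m, hm⟩ := h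
  have hm0 : 0 < m := by
    rcases Nat.eq_zero_or_pos m with h | h
    · rw [h] at hm; omega
    · exact h
  refine ⟨u ^ m, ?_⟩
  rw [orderOf_pow_of_dvd hm0.ne' (by rw [hu, hm]; exact Dvd.intro_left _ rfl), hu, hm, Nat.mul_div_cancel _ hm0]

theorem row_psl4 [Finite G] (C : CA H N0 z s ψ) {F : Type} [Field F] [Fintype F] (hF : Odd (Fintype.card F))
    (e : G ≃* Matrix.ProjectiveSpecialLinearGroup (Fin 4) F) : False := by
  have hc := H285.TwoPart.psl_card (F := F) (n := 4) (by norm_num)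
  rw [← Nat.card_congr e.toEquiv] at hc
  obtain ⟨u, hu⟩ := exists_u8 (Num.psl4 hF Fintype.one_lt_card hc C.two)
  refine C.kill8 hu ((e.symm.toMonoidHom.comp (QuotientGroup.mk' _)).comp (dg4 u)) ?_
  intro a b c h
  have h1 : (QuotientGroup.mk' _ (dg4 u (a, b, c)) : Matrix.ProjectiveSpecialLinearGroup (Fin 4) F) = 1 := by
    apply e.symm.injective
    rw [map_one]; exact h
  have h2 : dg4 u (a, b, c) ∈ Subgroup.center SL(4, F) := (QuotientGroup.eq_one_iff _).1 h1
  obtain ⟨r, -, hr⟩ := Matrix.SpecialLinearGroup.mem_center_iff.1 h2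
  refine dg4_scalar (r := r) ?_
  rw [← hr]; rfl

/-! ### unitary groups -/

theorem row_psu_odd [Finite G] (C : CA H N0 z s ψ) {F : Type} [Field F] [Fintype F] {q : ℕ}
    (hF : Fintype.card F = q ^ 2) (hq : Odd q) {n : ℕ} (hn : Odd n) (hn3 : 3 ≤ n) (hn8 : n < 8)
    (e : G ≃* PSU n F q) : False := by
  classical
  let π : SU n F q →* G := e.symm.toMonoidHom.comp (QuotientGroup.mk' _)
  have hπ : Function.Surjective π := e.symm.surjective.comp (QuotientGroup.mk'_surjective _)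
  have hker : π.ker = Subgroup.center (SU n F q) := by
    ext x
    constructor
    · intro hx
      have h1 : (QuotientGroup.mk' _ x : PSU n F q) = 1 := by
        apply e.symm.injective
        rw [map_one]; exact hx
      exact (QuotientGroup.eq_one_iff _).1 h1
    · intro hx
      have h1 : (QuotientGroup.mk' _ x : PSU n F q) = 1 := (QuotientGroup.eq_one_iff _).2 hx
      change e.symm (QuotientGroup.mk' _ x : PSU n F q) = 1
      rw [h1, map_one]
  have hko : Odd (Nat.card π.ker) := by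
    rw [hker, S0279.result hF n hn3]
    exact Odd.of_dvd_nat hn (Nat.gcd_dvd_left _ _)
  have hF' : Odd (Fintype.card F) := by rw [hF]; exact hq.pow
  have h1 := (C.lin_core (two_ne hF') π hπ hko ((slToMat n F).comp (SU n F q).subtype) (by
    intro x y hxy
    exact Subtype.ext (Subtype.ext hxy))).1
  rw [Fintype.card_fin] at h1
  omega

theorem row_psu4 [Finite G] (C : CA H N0 z s ψ) {F : Type} [Field F] [Fintype F] {q : ℕ}
    (hF : Fintype.card F = q ^ 2) (hq : Odd q) (e : G ≃* PSU 4 F q) : False := by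
  have hc := H285.TwoPart.psu_card (F := F) (n := 4) hF (by norm_num)
  rw [← Nat.card_congr e.toEquiv] at hc
  have hq1 : 1 < q := by
    have h1 : 1 < Fintype.card F := Fintype.one_lt_card
    rw [hF] at h1
    by_contra hlt
    have h2 : q ^ 2 ≤ 1 ^ 2 := Nat.pow_le_pow_left (by omega) 2
    omega
  have h8 := Num.psu4 hq hq1 hc C.two
  have hfac : q ^ 2 - 1 = (q + 1) * (q - 1) := by
    have := Nat.sq_sub_sq q 1
    simpa using this
  obtain ⟨u, hu⟩ := exists_u8 (F := F) (by rw [hF, hfac]; exact h8.mul_right _)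
  have hnorm : ∀ x : ↥(zpowers u), ((x : Fˣ) : F) ^ (q + 1) = 1 := by
    rintro ⟨_, k, rfl⟩
    obtain ⟨m, hm⟩ := h8
    change (((u ^ k : Fˣ)) : F) ^ (q + 1) = 1
    have h1 : u ^ 8 = 1 := by rw [← hu]; exact pow_orderOf_eq_one u
    have h2 : (u ^ k) ^ (q + 1) = 1 := by
      rw [hm, pow_mul, ← zpow_natCast (u ^ k), ← _root_.zpow_mul, mul_comm k, _root_.zpow_mul, zpow_natCast, h1, _root_.one_zpow, one_pow]
    rw [← Units.val_pow_eq_pow_val, h2, Units.val_one]
  have hmem : ∀ p, dg4 u p ∈ SU 4 F q := by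
    intro p
    have h1 : ∏ i, (![((p.1 : Fˣ) : F), ((p.2.1 : Fˣ) : F), ((p.2.2 : Fˣ) : F),
      (((p.1 * p.2.1 * p.2.2)⁻¹ : ↥(zpowers u)) : Fˣ)] : Fin 4 → F) i = 1 := by
      have := (dg4 u p).2
      rw [show (dg4 u p).1 = _ from dg4_val u p, Matrix.det_diagonal] at this
      exact this
    have h2 := (LieClassical.SUBasic.suDiag q (![((p.1 : Fˣ) : F), ((p.2.1 : Fˣ) : F), ((p.2.2 : Fˣ) : F),
      (((p.1 * p.2.1 * p.2.2)⁻¹ : ↥(zpowers u)) : Fˣ)] : Fin 4 → F) h1 (by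
        intro i
        fin_cases i
        · exact hnorm _
        · exact hnorm _
        · exact hnorm _
        · exact hnorm _)).2
    exact h2
  let g : ↥(zpowers u) × ↥(zpowers u) × ↥(zpowers u) →* SU 4 F q := (dg4 u).codRestrict _ hmem
  refine C.kill8 hu ((e.symm.toMonoidHom.comp (QuotientGroup.mk' _)).comp g) ?_
  intro a b c h
  have h1 : (QuotientGroup.mk' _ (g (a, b, c)) : PSU 4 F q) = 1 := by
    apply e.symm.injective
    rw [map_one]; exact h
  have h2 : g (a, b, c) ∈ Subgroup.center (SU 4 F q) := (QuotientGroup.eq_one_iff _).1 h1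
  obtain ⟨r, hr1, hr2, hr⟩ := (LieClassical.SUBasic.mem_center_SU_iff hF (by norm_num) _).1 h2
  refine dg4_scalar (r := r) ?_
  have h3 := congrArg (fun A : SU 4 F q => ((A : SL(4, F)) : Matrix (Fin 4) (Fin 4) F)) hr
  exact h3

end Cfsg.Agent.H314.Co3
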