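import Cfsg.Agent.H314.Co3.Abel

/-!
# S1920, case A: the Sylow 2-subgroup (helper314)
-/

set_option autoImplicit false

open Subgroup

namespace Cfsg.Agent.H314.Co3

variable {G : Type*} [Group G]

theorem card_perm_six : Nat.card (Equiv.Perm (Fin 6)) = 720 := by
  rw [Nat.card_eq_fintype_card, Fintype.card_perm, Fintype.card_fin]; rfl

/-- a 2-group whose order divides `2 ^ a * m`, `m` odd -/
theorem card_le_of_two {X : Type*} [Group X] [Finite X] {R : Subgroup X} (hR : IsPGroup 2 R) {a m : ℕ} (hm : Odd m)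
    (h : Nat.card R ∣ 2 ^ a * m) : Nat.card R ∣ 2 ^ a := by
  have : Fact (Nat.Prime 2) := ⟨Nat.prime_two⟩
  obtain ⟨k, hk⟩ := IsPGroup.iff_card.1 hR
  rw [hk] at h ⊢
  refine Nat.Coprime.dvd_of_dvd_mul_right ?_ h
  exact Nat.Coprime.pow_left _ ((Nat.coprime_two_left).2 hm)

namespace CA

variable {H N0 : Subgroup G} {z s : G} {ψ : ↥H →* Equiv.Perm (Fin 6)}

theorem exists_T [Finite G] (C : CA H N0 z s ψ) : ∃ T : Subgroup G, T ≤ H ∧ T ≤ normalizer (N0 : Set G) ∧ N0 ≤ T ∧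
    IsPGroup 2 T ∧ Nat.card T = 2 ^ 10 ∧ ∀ t : ↥H, (t : G) ∈ T → ψ t = 1 → (t : G) ∈ N0 := by
  have : Fact (Nat.Prime 2) := ⟨Nat.prime_two⟩
  let M : Subgroup ↥H := (normalizer (N0 : Set G)).comap H.subtype
  let j : ↥M →* G := H.subtype.comp M.subtype
  have hj : Function.Injective j := H.subtype_injective.comp M.subtype_injective
  let ψM : ↥M →* Equiv.Perm (Fin 6) := ψ.comp M.subtype
  have hsur : Function.Surjective ψM := by
    intro π
    obtain ⟨h, h1, h2⟩ := C.frat π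
    exact ⟨⟨h, h1⟩, h2⟩
  let N1 : Subgroup ↥M := N0.comap j
  have hmemN1 : ∀ x : ↥M, x ∈ N1 ↔ j x ∈ N0 := fun x => Iff.rfl
  have hNr : N0 ≤ j.range := by
    intro n hn
    exact ⟨⟨⟨n, C.NH hn⟩, le_normalizer hn⟩, rfl⟩
  have hN1map : N1.map j = N0 := by
    rw [Subgroup.map_comap_eq, inf_eq_right.2 hNr]
  have hN1card : Nat.card N1 = 64 := by
    rw [← C.card, ← hN1map]
    exact Nat.card_congr (N1.equivMapOfInjective j hj).toEquiv
  have hN1n : N1.Normal := by
    constructor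
    intro n hn g
    rw [hmemN1] at hn ⊢
    rw [map_mul, map_mul, map_inv]
    have hg : j g ∈ normalizer (N0 : Set G) := g.2
    exact (mem_normalizer_iff.1 hg (j n)).1 hn
  have hN1p : IsPGroup 2 N1 := IsPGroup.of_card (n := 6) (by rw [hN1card]; norm_num)
  have hN1k : N1 ≤ ψM.ker := by
    intro x hx
    rw [MonoidHom.mem_ker]
    exact C.psi_N (j x) hx
  obtain ⟨m, hm, hmc⟩ := C.ker_card
  -- the order of the kernel
  have hk1 : Nat.card ψM.ker ∣ 64 * m := by
    rw [← hmc]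
    have h1 : Nat.card (ψM.ker.map M.subtype) ∣ Nat.card ψ.ker := by
      apply Subgroup.card_dvd_of_le
      rintro _ ⟨x, hx, rfl⟩
      exact hx
    rwa [← Nat.card_congr (ψM.ker.equivMapOfInjective M.subtype M.subtype_injective).toEquiv] at h1
  have hk2 : 64 ∣ Nat.card ψM.ker := by
    rw [← hN1card]; exact Subgroup.card_dvd_of_le hN1k
  obtain ⟨m', hm'⟩ := hk2
  have hmo : Odd m' := by
    rw [hm'] at hk1
    exact Odd.of_dvd_nat hm (Nat.dvd_of_mul_dvd_mul_left (by norm_num) hk1)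
  have hMc : Nat.card ↥M = 2 ^ 10 * (45 * m') := by
    have h1 := Subgroup.card_mul_index ψM.ker
    rw [Subgroup.index_ker, MonoidHom.range_eq_top.2 hsur, Nat.card_congr Subgroup.topEquiv.toEquiv, card_perm_six,
      hm'] at h1
    rw [← h1]; ring
  have hfac : (Nat.card ↥M).factorization 2 = 10 := by
    have ho : Odd (45 * m') := (by decide : Odd 45).mul hmo
    have h0 : 45 * m' ≠ 0 := ho.pos.ne'
    rw [hMc, Nat.factorization_mul (by norm_num) h0, Nat.Prime.factorization_pow Nat.prime_two]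
    simp only [Finsupp.add_apply, Finsupp.single_eq_same]
    rw [Nat.factorization_eq_zero_of_not_dvd]
    exact fun h => (Nat.not_even_iff_odd.2 ho) (even_iff_two_dvd.2 h)
  obtain ⟨P⟩ : Nonempty (Sylow 2 ↥M) := inferInstance
  have hPc : Nat.card P = 2 ^ 10 := by rw [P.card_eq_multiplicity, hfac]
  have hN1P : N1 ≤ P := hN1p.le_sylow_of_normal P
  refine ⟨(P : Subgroup ↥M).map j, ?_, ?_, ?_, P.2.map j, ?_, ?_⟩
  · rintro _ ⟨x, -, rfl⟩
    exact (x : ↥H).2
  · rintro _ ⟨x, -, rfl⟩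
    exact x.2
  · rw [← hN1map]; exact Subgroup.map_mono hN1P
  · rw [← Nat.card_congr ((P : Subgroup ↥M).equivMapOfInjective j hj).toEquiv]
    exact hPc
  · rintro t ⟨x, hx, hxt⟩ ht
    have hxt' : (x : ↥H) = t := Subtype.ext hxt
    have hxk : x ∈ ψM.ker := by
      rw [MonoidHom.mem_ker]
      change ψ (x : ↥H) = 1
      rw [hxt', ht]
    have hR : IsPGroup 2 ↥((P : Subgroup ↥M) ⊓ ψM.ker) := P.2.to_le inf_le_left
    have h1 : Nat.card ↥((P : Subgroup ↥M) ⊓ ψM.ker) ∣ 2 ^ 6 := by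
      refine card_le_of_two hR hmo ?_
      rw [show 2 ^ 6 * m' = 64 * m' by norm_num, ← hm']
      exact Subgroup.card_dvd_of_le inf_le_right
    have h2 : N1 = (P : Subgroup ↥M) ⊓ ψM.ker :=
      Subgroup.eq_of_le_of_card_ge (le_inf hN1P hN1k) (by rw [hN1card]; exact Nat.le_of_dvd (by norm_num) h1)
    have h3 : x ∈ N1 := by rw [h2]; exact ⟨hx, hxk⟩
    have h4 : j x ∈ N0 := h3
    rw [← hxt]; exact h4

end CA

end Cfsg.Agent.H314.Co3
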