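import Cfsg.Agent.H314.Co3.Lin
import Cfsg.Agent.ClassicalGeometry.PSLTorus

/-!
# S1920, case A: pairs of commuting `SL_2` (helper314)
-/

set_option autoImplicit false

open Subgroup
open scoped MatrixGroups

namespace Cfsg.Agent.H314.Co3

/-- the diagonal torus of `SL_2` -/
def dgHom (F : Type*) [Field F] : Fˣ →* SL(2, F) where
  toFun u := ⟨!![(u : F), 0; 0, ((u⁻¹ : Fˣ) : F)], by simp [Matrix.det_fin_two]⟩
  map_one' := by
    apply Subtype.ext
    ext i j
    fin_cases i <;> fin_cases j <;> simp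
  map_mul' u v := by
    apply Subtype.ext
    change !![((u * v : Fˣ) : F), 0; 0, (((u * v)⁻¹ : Fˣ) : F)] =
      !![(u : F), 0; 0, ((u⁻¹ : Fˣ) : F)] * !![(v : F), 0; 0, ((v⁻¹ : Fˣ) : F)]
    ext i j
    fin_cases i <;> fin_cases j <;> simp [Matrix.mul_apply, Fin.sum_univ_two, mul_comm]

theorem dgHom_injective (F : Type*) [Field F] : Function.Injective (dgHom F) := by
  intro u v h
  apply Units.ext
  exact congrArg (fun x : SL(2, F) => x.1 0 0) h

/-- elements of `SL_2(q)` of order dividing `q - 1` or `q + 1` -/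
theorem exists_ord (F : Type*) [Field F] [Fintype F] {k : ℕ} (h : k ∣ Fintype.card F - 1 ∨ k ∣ Fintype.card F + 1) :
    ∃ a : SL(2, F), orderOf a = k := by
  classical
  have hq : 1 < Fintype.card F := Fintype.one_lt_card
  have key : ∀ {X : Type _} [Group X] (a : X) (n : ℕ), 0 < n → orderOf a = n → k ∣ n → ∃ b : X, orderOf b = k := by
    intro X _ a n hn ha hk
    obtain ⟨m, rfl⟩ := hk
    have hm : 0 < m := Nat.pos_of_mul_pos_left hn
    refine ⟨a ^ m, ?_⟩
    rw [orderOf_pow_of_dvd hm.ne' (by rw [ha]; exact Dvd.intro_left _ rfl), ha, Nat.mul_div_cancel _ hm]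
  rcases h with h | h
  · obtain ⟨u, hu⟩ := IsCyclic.exists_ofOrder_eq_natCard (α := Fˣ)
    rw [Nat.card_eq_fintype_card, Fintype.card_units] at hu
    exact key (dgHom F u) _ (by omega) (by rw [orderOf_injective (dgHom F) (dgHom_injective F), hu]) h
  · obtain ⟨a, s, ha, -⟩ := ClassicalGeometry.NonsplitTorus.exists_torus_TI F
    exact key a _ (by omega) ha h

theorem exists_sixteen (F : Type*) [Field F] [Fintype F] (hq : Odd (Fintype.card F))
    (h : 32 ∣ Fintype.card F ^ 2 - 1) : ∃ a : SL(2, F), orderOf a = 16 := by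
  apply exists_ord
  have hq1 : 1 < Fintype.card F := Fintype.one_lt_card
  obtain ⟨a, ha⟩ := hq
  rw [ha] at h ⊢
  have e : (2 * a + 1) ^ 2 - 1 = 4 * (a * (a + 1)) := by
    apply Nat.sub_eq_of_eq_add
    ring
  rw [e] at h
  have h1 : 8 ∣ a * (a + 1) := by
    obtain ⟨c, hc⟩ := h
    exact ⟨c, by omega⟩
  have h2 : 2 * a + 1 - 1 = 2 * a := by omega
  have h3 : 2 * a + 1 + 1 = 2 * (a + 1) := by ring
  rw [h2, h3]
  rcases Nat.even_or_odd a with hae | hao
  · left
    have hc : Nat.Coprime 8 (a + 1) := by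
      rw [show 8 = 2 ^ 3 by norm_num]
      exact Nat.Coprime.pow_left _ ((Nat.coprime_two_left).2 hae.add_one)
    have := hc.dvd_of_dvd_mul_right h1
    obtain ⟨c, hc⟩ := this
    exact ⟨c, by omega⟩
  · right
    have hc : Nat.Coprime 8 a := by
      rw [show 8 = 2 ^ 3 by norm_num]
      exact Nat.Coprime.pow_left _ ((Nat.coprime_two_left).2 hao)
    have := hc.dvd_of_dvd_mul_left h1
    obtain ⟨c, hc⟩ := this
    exact ⟨c, by omega⟩

variable {G : Type*} [Group G]

theorem isPGroup_zpowers {x : G} {k : ℕ} (hx : orderOf x = 2 ^ k) : IsPGroup 2 (zpowers x) :=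
  IsPGroup.of_card (n := k) (by rw [Nat.card_zpowers, hx])

namespace CA

variable {H N0 : Subgroup G} {z s : G} {ψ : ↥H →* Equiv.Perm (Fin 6)}

/-- no 2-elements of order at least `2 ^ 8` -/
theorem kill_elt [Finite G] (C : CA H N0 z s ψ) {x : G} {k : ℕ} (hx : orderOf x = 2 ^ k) (hk : 128 < orderOf x) :
    False := by
  have h1 := (C.abel (isPGroup_zpowers hx) (by
    rintro _ ⟨a, rfl⟩ _ ⟨b, rfl⟩
    change x ^ a * x ^ b = x ^ b * x ^ a
    rw [← zpow_add, ← zpow_add, add_comm])).1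
  rw [Nat.card_zpowers] at h1
  omega

/-- **no commuting pairs of elements of order 16 with small intersection** -/
theorem kill16 [Finite G] (C : CA H N0 z s ψ) {x y w : G} (hx : orderOf x = 16) (hy : orderOf y = 16)
    (hxy : x * y = y * x) (hint : ∀ g, g ∈ zpowers x → g ∈ zpowers y → g = 1 ∨ g = w) : False := by
  have hcc : Commute x y := hxy
  let f : ↥(zpowers x) × ↥(zpowers y) →* G := (zpowers x).subtype.noncommCoprod (zpowers y).subtype (by
    rintro ⟨_, ⟨a, rfl⟩⟩ ⟨_, ⟨b, rfl⟩⟩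
    exact (hcc.zpow_zpow a b))
  have hf : ∀ a b, f (a, b) = (a : G) * b := fun a b => rfl
  have hcomm : ∀ a ∈ f.range, ∀ b ∈ f.range, a * b = b * a := by
    rintro _ ⟨⟨⟨_, ⟨a, rfl⟩⟩, ⟨_, ⟨b, rfl⟩⟩⟩, rfl⟩ _ ⟨⟨⟨_, ⟨a', rfl⟩⟩, ⟨_, ⟨b', rfl⟩⟩⟩, rfl⟩
    rw [← map_mul, ← map_mul]
    congr 1
    apply Prod.ext
    · apply Subtype.ext
      change x ^ a * x ^ a' = x ^ a' * x ^ a
      rw [← zpow_add, ← zpow_add, add_comm]
    · apply Subtype.ext
      change y ^ b * y ^ b' = y ^ b' * y ^ b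
      rw [← zpow_add, ← zpow_add, add_comm]
  have hcard : Nat.card (↥(zpowers x) × ↥(zpowers y)) = 2 ^ 8 := by
    rw [Nat.card_prod, Nat.card_zpowers, Nat.card_zpowers, hx, hy]; norm_num
  have hp : IsPGroup 2 f.range := (IsPGroup.of_card hcard).of_surjective f.rangeRestrict f.rangeRestrict_surjective
  -- the kernel
  have hk : Nat.card f.ker ≤ 2 := by
    classical
    let g : ↥f.ker → Bool := fun p => decide (((p : ↥(zpowers x) × ↥(zpowers y)).1 : G) = 1)
    have hg : Function.Injective g := by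
      rintro ⟨⟨a, b⟩, h⟩ ⟨⟨a', b'⟩, h'⟩ hgg
      have h1 : (a : G) * b = 1 := h
      have h2 : (a' : G) * b' = 1 := h'
      have e1 : (b : G) = (a : G)⁻¹ := (inv_eq_of_mul_eq_one_right h1).symm
      have e2 : (b' : G) = (a' : G)⁻¹ := (inv_eq_of_mul_eq_one_right h2).symm
      have i1 : (a : G) = 1 ∨ (a : G) = w := hint _ a.2 (by
        have := inv_mem b.2
        rwa [e1, inv_inv] at this)
      have i2 : (a' : G) = 1 ∨ (a' : G) = w := hint _ a'.2 (by
        have := inv_mem b'.2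
        rwa [e2, inv_inv] at this)
      have hgg' : ((a : G) = 1 ↔ (a' : G) = 1) := by
        simpa [g] using hgg
      have h3 : (a : G) = a' := by
        rcases i1 with i1 | i1
        · rw [i1, hgg'.1 i1]
        · rcases i2 with i2 | i2
          · rw [i2, hgg'.2 i2]
          · rw [i1, i2]
      apply Subtype.ext
      apply Prod.ext
      · exact Subtype.ext h3
      · apply Subtype.ext
        change (b : G) = b'
        rw [e1, e2, h3]
    have := Nat.card_le_card_of_injective g hg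
    simpa using this
  have hmul : Nat.card f.ker * Nat.card f.range = 2 ^ 8 := by
    rw [← hcard, ← Subgroup.index_ker]; exact Subgroup.card_mul_index f.ker
  have h128 : 128 ≤ Nat.card f.range := by
    by_contra hlt
    have : Nat.card f.ker * Nat.card f.range ≤ 2 * 127 := Nat.mul_le_mul hk (by omega)
    omega
  obtain ⟨z', hz'⟩ := (C.abel hp hcomm).2 h128
  have hxm : ∀ n : ℕ, x ^ n ∈ f.range := fun n => ⟨(⟨x ^ n, pow_mem (mem_zpowers x) n⟩, 1), by rw [hf]; simp⟩
  have h1 := hz' _ (hxm 1)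
  have h3 := hz' _ (hxm 3)
  rw [pow_one] at h1
  rw [← pow_mul] at h3
  have n1 : x ^ 4 ≠ 1 := fun h => by
    have := orderOf_dvd_of_pow_eq_one h
    rw [hx] at this
    exact absurd this (by norm_num)
  have n3 : x ^ (3 * 4) ≠ 1 := fun h => by
    have := orderOf_dvd_of_pow_eq_one h
    rw [hx] at this
    exact absurd this (by norm_num)
  have e : x ^ (3 * 4) = x ^ 4 := by rw [h1.resolve_left n1, h3.resolve_left n3]
  have e2 : x ^ 8 = 1 := by
    have : x ^ (3 * 4) = x ^ 8 * x ^ 4 := by rw [← pow_add]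
    rw [this] at e
    exact mul_eq_right.1 e
  have := orderOf_dvd_of_pow_eq_one e2
  rw [hx] at this
  exact absurd this (by norm_num)

/-- **two commuting `SL_2`** -/
theorem kill_pair [Finite G] (C : CA H N0 z s ψ) {E E' : Type*} [Field E] [Fintype E] [Field E'] [Fintype E']
    (hE : Odd (Fintype.card E)) (hE' : Odd (Fintype.card E')) (h32 : 32 ∣ Fintype.card E ^ 2 - 1)
    (h32' : 32 ∣ Fintype.card E' ^ 2 - 1) (f : SL(2, E) →* G) (f' : SL(2, E') →* G) (hf : Function.Injective f)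
    (hf' : Function.Injective f') (hc : ∀ u v, f u * f' v = f' v * f u) (w : G)
    (hint : ∀ u v, f u = f' v → f u = 1 ∨ f u = w) : False := by
  obtain ⟨a, ha⟩ := exists_sixteen E hE h32
  obtain ⟨b, hb⟩ := exists_sixteen E' hE' h32'
  refine C.kill16 (x := f a) (y := f' b) (w := w) (by rw [orderOf_injective f hf, ha])
    (by rw [orderOf_injective f' hf', hb]) (hc a b) ?_
  rintro _ ⟨m, rfl⟩ ⟨n, hn⟩
  change f a ^ m = 1 ∨ f a ^ m = w
  have hn' : f' b ^ n = f a ^ m := hn
  rw [← map_zpow] at hn' ⊢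
  rw [← map_zpow] at hn'
  exact hint _ _ hn'.symm

end CA

end Cfsg.Agent.H314.Co3
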